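import Mathlib

/-!
Irreducible subgroups of a symplectic group in characteristic two containing, at one point `a`, a
full family `x ↦ x + B(x,a) v + B(x,v) a + c B(x,a) a` (one `c` at least for each `v ⊥ a`) of
elements of the radical of the point stabiliser: basic calculus.
-/

set_option autoImplicit false

namespace CfsgLib.SpOver

open Module

variable {F V : Type*} [Field F] [AddCommGroup V] [Module F V]

/-- The element of the radical of the stabiliser of `a` with parameters `(v, c)`. -/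
def uFun (B : LinearMap.BilinForm F V) (a v : V) (c : F) (x : V) : V :=
  x + B x a • v + B x v • a + (c * B x a) • a

/-- Some element of `L` acts as `uFun B a v c`. -/
def In (B : LinearMap.BilinForm F V) (L : Subgroup (V ≃ₗ[F] V)) (a v : V) (c : F) : Prop :=
  ∃ g ∈ L, ∀ x, g x = uFun B a v c x

/-- A non-degenerate alternating form. -/
structure IsSymp (B : LinearMap.BilinForm F V) : Prop where
  self : ∀ x, B x x = 0
  nd : ∀ x, (∀ y, B x y = 0) → x = 0

/-- The hypotheses on the pair `(L, a)`. -/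
structure Conf (B : LinearMap.BilinForm F V) (L : Subgroup (V ≃ₗ[F] V)) (a : V) : Prop where
  symp : IsSymp B
  pres : ∀ g ∈ L, ∀ x y, B (g x) (g y) = B x y
  ne : a ≠ 0
  hyp : ∀ v, B a v = 0 → ∃ c, In B L a v c
  irr : ∀ W : Submodule F V, (∀ g ∈ L, ∀ w ∈ W, g w ∈ W) → W = ⊥ ∨ W = ⊤

/-- The `L`-orbit of the point of `a`, as a set of vectors. -/
def Orb (L : Subgroup (V ≃ₗ[F] V)) (a x : V) : Prop :=
  ∃ (k : F) (g : V ≃ₗ[F] V), g ∈ L ∧ k ≠ 0 ∧ x = k • g a

theorem IsSymp.symm [CharP F 2] {B : LinearMap.BilinForm F V} (hB : IsSymp B) (x y : V) :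
    B x y = B y x := by
  have h := hB.self (x + y)
  simp only [map_add, LinearMap.add_apply, hB.self, zero_add, add_zero] at h
  exact (CharTwo.add_eq_zero.1 h).symm

theorem IsSymp.exists_pair {B : LinearMap.BilinForm F V} (hB : IsSymp B) {x : V} (hx : x ≠ 0) :
    ∃ y, B x y = 1 := by
  obtain ⟨y, hy⟩ := not_forall.1 fun h => hx (hB.nd x h)
  exact ⟨(B x y)⁻¹ • y, by rw [map_smul, smul_eq_mul, inv_mul_cancel₀ hy]⟩

/-- Non-proportional vectors are separated by the form. -/
theorem IsSymp.exists_sep [FiniteDimensional F V] {B : LinearMap.BilinForm F V} (hB : IsSymp B)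
    {x y : V} (hx : ∀ k : F, x ≠ k • y) (s : F) : ∃ w, B y w = 0 ∧ B x w = s := by
  by_cases h : ∃ w, B y w = 0 ∧ B x w ≠ 0
  · obtain ⟨w, h1, h2⟩ := h
    refine ⟨(s / B x w) • w, by rw [map_smul, h1, smul_zero], ?_⟩
    rw [map_smul, smul_eq_mul, div_mul_cancel₀ _ h2]
  · push Not at h
    exfalso
    rcases eq_or_ne y 0 with rfl | hy
    · refine hx 0 ?_
      rw [zero_smul]
      exact hB.nd x fun w => h w (by simp)
    · obtain ⟨z, hz⟩ := hB.exists_pair hy
      refine hx (B x z) (sub_eq_zero.1 (hB.nd _ fun w => ?_))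
      have := h (w - B y w • z) (by rw [map_sub, map_smul, smul_eq_mul, hz, mul_one, sub_self])
      rw [map_sub, map_smul, smul_eq_mul, sub_eq_zero] at this
      simp only [map_sub, map_smul, LinearMap.sub_apply, LinearMap.smul_apply, smul_eq_mul, this]
      ring

variable [CharP F 2] {B : LinearMap.BilinForm F V} (hB : IsSymp B)

include hB

theorem uFun_comp {a v v' : V} (h : B a v = 0) (h' : B a v' = 0) (c c' : F) (x : V) :
    uFun B a v c (uFun B a v' c' x) = uFun B a (v + v') (c + c' + B v v') x := by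
  simp only [uFun, map_add, LinearMap.add_apply, map_smul, LinearMap.smul_apply, smul_eq_mul,
    hB.self, h, hB.symm v' a, h', hB.symm v' v, mul_zero, add_zero, zero_mul]
  match_scalars <;> ring

theorem uFun_add_smul {a v : V} (k c : F) (x : V) :
    uFun B a (v + k • a) c x = uFun B a v c x := by
  have h2 : (2 : F) = 0 := CharTwo.two_eq_zero
  simp only [uFun, map_add, map_smul, smul_eq_mul]
  match_scalars <;> first | linear_combination (k * B x a) * h2 | ring

theorem uFun_smul {a v : V} (k c : F) (x : V) :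
    uFun B (k • a) v c x = uFun B a (k • v) (k * k * c) x := by
  simp only [uFun, map_smul, smul_eq_mul]
  match_scalars <;> ring

theorem uFun_symm {a v : V} (x : V) : uFun B a v 0 x = uFun B v a 0 x := by
  simp only [uFun, zero_mul, zero_smul, add_zero]
  abel

end CfsgLib.SpOver

namespace CfsgLib.SpOver

open Module

variable {F V : Type*} [Field F] [CharP F 2] [AddCommGroup V] [Module F V]
  {B : LinearMap.BilinForm F V} {L : Subgroup (V ≃ₗ[F] V)}

omit [CharP F 2] in
theorem in_zero (B : LinearMap.BilinForm F V) (L : Subgroup (V ≃ₗ[F] V)) (a : V) : In B L a 0 0 :=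
  ⟨1, one_mem L, fun x => by simp [uFun]⟩

theorem In.mul (hB : IsSymp B) {a v v' : V} {c c' : F} (h : In B L a v c) (h' : In B L a v' c')
    (hv : B a v = 0) (hv' : B a v' = 0) : In B L a (v + v') (c + c' + B v v') := by
  obtain ⟨g, hg, hgx⟩ := h
  obtain ⟨g', hg', hgx'⟩ := h'
  exact ⟨g * g', mul_mem hg hg', fun x => by
    rw [LinearEquiv.mul_apply, hgx', hgx, uFun_comp hB hv hv']⟩

omit [CharP F 2] in
theorem In.conj (hpres : ∀ g ∈ L, ∀ x y, B (g x) (g y) = B x y) {a v : V} {c : F}
    (h : In B L a v c) {g : V ≃ₗ[F] V} (hg : g ∈ L) : In B L (g a) (g v) c := by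
  obtain ⟨u, hu, hux⟩ := h
  refine ⟨g * u * g⁻¹, mul_mem (mul_mem hg hu) (inv_mem hg), fun x => ?_⟩
  obtain ⟨y, rfl⟩ := g.surjective x
  simp only [LinearEquiv.mul_apply, LinearEquiv.coe_inv, LinearEquiv.symm_apply_apply, hux, uFun,
    map_add, map_smul, hpres g hg]

theorem In.mod_self (hB : IsSymp B) {a v : V} {c : F} (k : F) :
    In B L a (v + k • a) c ↔ In B L a v c := by
  simp only [In, uFun_add_smul hB]

theorem In.smul_iff (hB : IsSymp B) {a v : V} {k c : F} :
    In B L (k • a) v c ↔ In B L a (k • v) (k * k * c) := by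
  simp only [In, uFun_smul hB]

theorem In.symm_iff (hB : IsSymp B) {a v : V} : In B L a v 0 ↔ In B L v a 0 := by
  simp only [In, uFun_symm hB (a := a) (v := v)]

namespace Conf

variable {a : V} (K : Conf B L a)
include K

omit [CharP F 2] in
theorem orb_self : Orb L a a := ⟨1, 1, one_mem L, one_ne_zero, by simp⟩

omit [CharP F 2] K in
theorem orb_smul {x : V} {k : F} (hk : k ≠ 0) (hx : Orb L a x) : Orb L a (k • x) := by
  obtain ⟨l, g, hg, hl, rfl⟩ := hx
  exact ⟨k * l, g, hg, mul_ne_zero hk hl, smul_smul k l _⟩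

omit [CharP F 2] K in
theorem orb_map {x : V} {g : V ≃ₗ[F] V} (hg : g ∈ L) (hx : Orb L a x) : Orb L a (g x) := by
  obtain ⟨l, g', hg', hl, rfl⟩ := hx
  exact ⟨l, g * g', mul_mem hg hg', hl, by simp⟩

omit [CharP F 2] in
theorem orb_ne_zero {x : V} (hx : Orb L a x) : x ≠ 0 := by
  obtain ⟨l, g, -, hl, rfl⟩ := hx
  exact smul_ne_zero hl ((LinearEquiv.map_ne_zero_iff g).2 K.ne)

omit K [CharP F 2] in
theorem orb_of_in {x v y : V} {c : F} (h : In B L x v c) (hy : Orb L a y) :
    Orb L a (uFun B x v c y) := by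
  obtain ⟨g, hg, hgx⟩ := h
  rw [← hgx]
  exact orb_map hg hy

/-- Every point of the orbit has its own family of elements in `L`. -/
theorem hyp_of_orb {x : V} (hx : Orb L a x) {v : V} (hv : B x v = 0) : ∃ c, In B L x v c := by
  obtain ⟨k, g, hg, hk, rfl⟩ := hx
  obtain ⟨w, rfl⟩ := g.surjective v
  rw [map_smul, LinearMap.smul_apply, K.pres g hg, smul_eq_mul, mul_eq_zero] at hv
  obtain ⟨c, hc⟩ := K.hyp (k • w) (by rw [map_smul, hv.resolve_left hk, smul_zero])
  refine ⟨c / (k * k), (In.smul_iff K.symp).2 ?_⟩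
  have h := hc.conj K.pres hg
  rw [map_smul] at h
  rwa [mul_div_cancel₀ c (mul_ne_zero hk hk)]

omit [CharP F 2] in
/-- The orbit spans. -/
theorem span_orb : Submodule.span F {x | Orb L a x} = ⊤ := by
  refine (K.irr _ fun g hg w hw => ?_).resolve_left fun h => K.ne ?_
  · have : Submodule.span F {x | Orb L a x} ≤
        (Submodule.span F {x | Orb L a x}).comap (g : V →ₗ[F] V) :=
      Submodule.span_le.2 fun x hx => Submodule.subset_span (orb_map hg hx)
    exact this hw
  · exact (Submodule.eq_bot_iff _).1 h a (Submodule.subset_span K.orb_self)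

theorem exists_partner {x : V} (hx : x ≠ 0) : ∃ b, Orb L a b ∧ B x b = 1 := by
  obtain ⟨y, hy, hxy⟩ : ∃ y, Orb L a y ∧ B x y ≠ 0 := by
    by_contra h
    push Not at h
    have hle : Submodule.span F {y | Orb L a y} ≤ LinearMap.ker (B x) :=
      Submodule.span_le.2 fun y hy => LinearMap.mem_ker.2 (h y hy)
    rw [K.span_orb] at hle
    exact hx (K.symp.nd x fun w => LinearMap.mem_ker.1 (hle Submodule.mem_top))
  exact ⟨(B x y)⁻¹ • y, orb_smul (inv_ne_zero hxy) hy,
    by rw [map_smul, smul_eq_mul, inv_mul_cancel₀ hxy]⟩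

end Conf

end CfsgLib.SpOver
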