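import Cfsg.Agent.Lib.SpOver.Form
import Cfsg.Agent.Lib.Orth.Reflection

/-!
Characteristic two: a subgroup of `O(Q)` with the Siegel groups at two opposite singular points is
`O(Q)` or the kernel of the Dickson invariant; that invariant is a homomorphism with no exception.
-/

set_option autoImplicit false

namespace CfsgLib.SpOver

open Module QuadraticMap CfsgLib.Classical.Quad CfsgLib.Orth

variable {F V : Type*} [Field F] [CharP F 2] [AddCommGroup V] [Module F V] [FiniteDimensional F V]
  {Q : QuadraticForm F V}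

/-- `Q` plus a hyperbolic plane. -/
def extForm (Q : QuadraticForm F V) : QuadraticForm F (V × (F × F)) :=
  Q.prod (linMulLin (LinearMap.fst F F F) (LinearMap.snd F F F))

omit [CharP F 2] [FiniteDimensional F V] in
theorem extForm_apply (x : V × (F × F)) : extForm Q x = Q x.1 + x.2.1 * x.2.2 := rfl

omit [CharP F 2] [FiniteDimensional F V] in
theorem polar_extForm (x y : V × (F × F)) :
    polar (⇑(extForm Q)) x y = polar (⇑Q) x.1 y.1 + (x.2.1 * y.2.2 + x.2.2 * y.2.1) := by
  simp only [polar, extForm_apply, Prod.fst_add, Prod.snd_add]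
  ring

omit [CharP F 2] [FiniteDimensional F V] in
theorem ndPolar_ext (hnd : NDPolar Q) : NDPolar (extForm Q) := by
  intro x hx
  have h1 : x.1 = 0 := hnd _ fun y => by
    simpa [polar_extForm] using hx (y, (0, 0))
  have h2 : x.2.2 = 0 := by simpa [polar_extForm] using hx (0, (1, 0))
  have h3 : x.2.1 = 0 := by simpa [polar_extForm] using hx (0, (0, 1))
  exact Prod.ext h1 (Prod.ext h3 h2)

/-- An isometry extended by the identity on the plane. -/
noncomputable def ext : Orth Q →* Orth (extForm Q) where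
  toFun g := ⟨g.1.prodCongr (LinearEquiv.refl F (F × F)), fun x => by
    show extForm Q (g.1 x.1, x.2) = extForm Q x
    rw [extForm_apply, extForm_apply, orth_Q]⟩
  map_one' := orth_ext fun _ => rfl
  map_mul' _ _ := orth_ext fun _ => rfl

omit [CharP F 2] [FiniteDimensional F V] in
theorem ext_apply (g : Orth Q) (x : V × (F × F)) : (ext g).1 x = (g.1 x.1, x.2) := rfl

omit [CharP F 2] in
theorem moved_ext (g : Orth Q) : moved (ext g) = moved g := by
  have h : LinearMap.range (subOne (ext g)) =
      (LinearMap.range (subOne g)).map (LinearMap.inl F V (F × F)) := by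
    ext z
    constructor
    · rintro ⟨x, rfl⟩
      exact ⟨_, LinearMap.mem_range_self _ x.1, by simp [ext_apply, Prod.ext_iff]⟩
    · rintro ⟨_, ⟨y, rfl⟩, rfl⟩
      exact ⟨(y, 0), by simp [ext_apply, Prod.ext_iff]⟩
  unfold moved
  rw [h]
  exact ((Submodule.equivMapOfInjective _ LinearMap.inl_injective _).finrank_eq).symm

/-- The parity of `rank (g - 1)` is a homomorphism, in any even dimension. -/
theorem parity_mul (hnd : NDPolar Q) (hdim : 4 ≤ finrank F V) (g g' : Orth Q) :
    (moved (g * g') : ZMod 2) = moved g + moved g' := by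
  have hgen : Subgroup.closure (reflSet (extForm Q)) = ⊤ :=
    closure_refl (ndPolar_ext hnd) (Or.inr (by
      rw [finrank_prod, finrank_prod, finrank_self]; omega))
  rw [← moved_ext g, ← moved_ext g', ← moved_ext (g * g'), map_mul]
  exact moved_mul_parity (ndPolar_ext hnd) hgen _ _

theorem moved_refl_refl {W : Type*} [AddCommGroup W] [Module F W] [FiniteDimensional F W]
    {q : QuadraticForm F W} (hnd : NDPolar q) {v v' : W} (hv : q v ≠ 0) (hv' : q v' ≠ 0) :
    (moved (refl q v * refl q v') : ZMod 2) = 0 := by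
  have h := moved_refl_mul_parity hnd (1 : Orth q) hv'
  rw [mul_one, moved_one, Nat.cast_zero, zero_add] at h
  rw [moved_refl_mul_parity hnd _ hv, h]
  rfl

theorem parity_siegel (hnd : NDPolar Q) (hdim : 4 ≤ finrank F V) {u w : V} (hu : Q u = 0)
    (hw : polar (⇑Q) u w = 0) : (moved (siegel Q u w hu hw) : ZMod 2) = 0 := by
  by_cases hQw : Q w = 0
  swap
  · rw [siegel_eq_refl_mul hu hw hQw]
    refine moved_refl_refl hnd ?_ hQw
    rw [Q_comb1, hu, polar_comm (⇑Q) w u, hw]
    simpa using hQw
  have hu' : extForm Q (u, (0, 0)) = 0 := by simp [extForm_apply, hu]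
  have hw1 : polar (⇑(extForm Q)) (u, (0, 0)) (w, (1, 1)) = 0 := by simp [polar_extForm, hw]
  have hw2 : polar (⇑(extForm Q)) (u, (0, 0)) (0, (1, 1)) = 0 := by simp [polar_extForm]
  have h1 : extForm Q (w, (1, 1)) ≠ 0 := by simp [extForm_apply, hQw]
  have h2 : extForm Q (0, (1, 1)) ≠ 0 := by simp [extForm_apply]
  have e : ext (siegel Q u w hu hw) =
      siegel (extForm Q) (u, (0, 0)) (w, (1, 1)) hu' hw1 *
        siegel (extForm Q) (u, (0, 0)) (0, (1, 1)) hu' hw2 := by
    rw [siegel_mul]
    refine orth_ext fun x => ?_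
    have e11 : ((w, ((1 : F), (1 : F))) : V × (F × F)) + (0, (1, 1)) = (w, (0, 0)) := by
      simp [CharTwo.add_self_eq_zero]
    simp only [ext_apply, siegel_apply, e11, polar_extForm, extForm_apply]
    refine Prod.ext ?_ ?_
    · simp
    · simp [Prod.ext_iff]
  have hp : ∀ g g' : Orth (extForm Q), (moved (g * g') : ZMod 2) = moved g + moved g' :=
    moved_mul_parity (ndPolar_ext hnd) (closure_refl (ndPolar_ext hnd) (Or.inr (by
      rw [finrank_prod, finrank_prod, finrank_self]; omega)))
  rw [← moved_ext, e, hp, siegel_eq_refl_mul hu' hw1 h1, siegel_eq_refl_mul hu' hw2 h2,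
    moved_refl_refl (ndPolar_ext hnd) ?_ h1, moved_refl_refl (ndPolar_ext hnd) ?_ h2, add_zero]
  · rw [Q_comb1, hu', polar_comm (⇑(extForm Q)) (0, (1, 1)) (u, (0, 0)), hw2]
    simp [extForm_apply]
  · rw [Q_comb1, hu', polar_comm (⇑(extForm Q)) (w, (1, 1)) (u, (0, 0)), hw1]
    simp [extForm_apply, hQw]

theorem parity_siegelGroup (hnd : NDPolar Q) (hdim : 4 ≤ finrank F V) {g : Orth Q}
    (hg : g ∈ siegelGroup Q) : (moved g : ZMod 2) = 0 := by
  induction hg using Subgroup.closure_induction with
  | mem x hx =>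
    obtain ⟨u, w, hu, hw, rfl⟩ := hx
    exact parity_siegel hnd hdim hu hw
  | one => simp [moved_one]
  | mul x y _ _ hx hy => rw [parity_mul hnd hdim, hx, hy, add_zero]
  | inv x _ hx =>
    have h := parity_mul hnd hdim x⁻¹ x
    rw [inv_mul_cancel, moved_one, Nat.cast_zero, hx, add_zero] at h
    exact h.symm

omit [FiniteDimensional F V] in
/-- Orthogonal vectors of value one give congruent reflections. -/
theorem refl_congr_of_orth {v v' : V} (hv : Q v = 1) (hv' : Q v' = 1)
    (h : polar (⇑Q) v v' = 0) : refl Q v' * refl Q v ∈ siegelGroup Q := by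
  have hu : Q (v + v') = 0 := by
    rw [QuadraticMap.map_add Q, hv, hv', h, add_zero, CharTwo.add_self_eq_zero]
  have hw : polar (⇑Q) (v + v') v = 0 := by
    rw [polar_add_left, polar_self', polar_comm (⇑Q) v' v, h, CharTwo.two_eq_zero, zero_mul,
      add_zero]
  have e := siegel_eq_refl_mul hu hw (by rw [hv]; exact one_ne_zero)
  have e' : v + (-(Q v)) • (v + v') = v' := by
    rw [hv, CharTwo.neg_eq, one_smul, ← add_assoc, ← two_smul F v, CharTwo.two_eq_zero, zero_smul,
      zero_add]
  rw [e'] at e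
  rw [← e]
  exact siegel_mem hu hw

variable [Finite F]

omit [FiniteDimensional F V] in
theorem exists_scaled {v : V} (hv : Q v ≠ 0) :
    ∃ s : F, s ≠ 0 ∧ Q (s • v) = 1 ∧ refl Q (s • v) = refl Q v := by
  obtain ⟨s, hs⟩ := FiniteField.isSquare_of_char_two (ringChar.eq F 2) (Q v)⁻¹
  have hs0 : s ≠ 0 := fun h => inv_ne_zero hv (by rw [hs, h, mul_zero])
  exact ⟨s, hs0, by rw [QuadraticMap.map_smul, ← hs, smul_eq_mul, inv_mul_cancel₀ hv],
    refl_smul hs0 v⟩

theorem refl_congr (hnd : NDPolar Q) (hdim : 4 ≤ finrank F V) {v v' : V} (hv : Q v ≠ 0)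
    (hv' : Q v' ≠ 0) : refl Q v' * refl Q v ∈ siegelGroup Q := by
  obtain ⟨s, -, h1, e1⟩ := exists_scaled hv
  obtain ⟨s', -, h1', e1'⟩ := exists_scaled hv'
  rw [← e1, ← e1']
  generalize s • v = x at h1
  generalize s' • v' = x' at h1'
  by_cases hp : polar (⇑Q) x x' = 0
  · exact refl_congr_of_orth h1 h1' hp
  obtain ⟨z, hz1, hz2, hz⟩ : ∃ z, polar (⇑Q) x z = 0 ∧ polar (⇑Q) x' z = 0 ∧ Q z ≠ 0 := by
    by_contra hcon
    push Not at hcon
    obtain ⟨k, hk0, hk1, hk2⟩ := exists_orth_pair hdim (polarBilin Q) x x'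
    simp only [polarBilin_apply_apply] at hk1 hk2
    refine hk0 (hnd k fun y => ?_)
    set y' := y + (-(polar (⇑Q) x' y / polar (⇑Q) x x')) • x
      + (-(polar (⇑Q) x y / polar (⇑Q) x x')) • x' with hy'
    have a1 : polar (⇑Q) x y' = 0 := by
      simp only [hy', polar_add_right, polar_smul_right, smul_eq_mul, polar_self',
        CharTwo.two_eq_zero, zero_mul, mul_zero, add_zero]
      field_simp
      simp
    have a2 : polar (⇑Q) x' y' = 0 := by
      simp only [hy', polar_add_right, polar_smul_right, smul_eq_mul, polar_self',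
        polar_comm (⇑Q) x' x, CharTwo.two_eq_zero, zero_mul, mul_zero, add_zero]
      field_simp
      simp
    have a3 : polar (⇑Q) k y' = 0 := by
      rw [polar, hcon _ (by rw [polar_add_right, hk1, a1, add_zero])
        (by rw [polar_add_right, hk2, a2, add_zero]), hcon k hk1 hk2, hcon y' a1 a2]
      simp
    simpa [hy', polar_add_right, polar_smul_right, polar_comm (⇑Q) k x, polar_comm (⇑Q) k x', hk1,
      hk2] using a3
  obtain ⟨t, -, h3, e3⟩ := exists_scaled hz
  have f1 := refl_congr_of_orth h1 h3 (by rw [polar_smul_right, hz1, smul_zero])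
  have f2 := refl_congr_of_orth h3 h1' (by rw [polar_smul_left, polar_comm, hz2, smul_zero])
  have h := mul_mem f2 f1
  rwa [mul_assoc, ← mul_assoc (refl Q (t • z)), refl_mul_self, one_mul] at h

theorem cases_siegel (hnd : NDPolar Q) (hdim : 4 ≤ finrank F V) {v₀ : V} (hv₀ : Q v₀ ≠ 0)
    (g : Orth Q) : g ∈ siegelGroup Q ∨ refl Q v₀ * g ∈ siegelGroup Q := by
  have hg : g ∈ Subgroup.closure (Set.range (refl Q) ∪ siegelSet Q) := by
    rw [closure_refl_siegel hnd]; exact Subgroup.mem_top g
  have hN : ∀ x, x ∈ Set.range (refl Q) ∪ siegelSet Q →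
      x ∈ siegelGroup Q ∨ refl Q v₀ * x ∈ siegelGroup Q := by
    rintro x (⟨v, rfl⟩ | hx)
    · by_cases hv : Q v = 0
      · left
        rw [show refl Q v = 1 from orth_ext fun x => by simp [refl_apply, hv]]
        exact one_mem _
      · exact Or.inr (refl_congr hnd hdim hv hv₀)
    · exact Or.inl (Subgroup.subset_closure hx)
  induction hg using Subgroup.closure_induction with
  | mem x hx => exact hN x hx
  | one => exact Or.inl (one_mem _)
  | mul x y _ _ hx hy =>
    rcases hx with hx | hx <;> rcases hy with hy | hy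
    · exact Or.inl (mul_mem hx hy)
    · right
      have h := mul_mem (siegelGroup_normal.conj_mem x hx (refl Q v₀)) hy
      rwa [refl_inv, mul_assoc, mul_assoc, ← mul_assoc (refl Q v₀) (refl Q v₀), refl_mul_self,
        one_mul] at h
    · exact Or.inr (by rw [← mul_assoc]; exact mul_mem hx hy)
    · left
      have h := mul_mem (siegelGroup_normal.conj_mem _ hx (refl Q v₀)) hy
      rwa [refl_inv, ← mul_assoc (refl Q v₀) (refl Q v₀) x, refl_mul_self, one_mul, mul_assoc,
        ← mul_assoc (refl Q v₀) (refl Q v₀) y, refl_mul_self, one_mul] at h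
  | inv x _ hx =>
    rcases hx with hx | hx
    · exact Or.inl (inv_mem hx)
    · right
      have h := siegelGroup_normal.conj_mem _ (inv_mem hx) (refl Q v₀)
      rwa [mul_inv_rev, refl_inv, mul_assoc, mul_assoc, refl_mul_self, mul_one] at h

variable {B : LinearMap.BilinForm F V} {L : Subgroup (V ≃ₗ[F] V)} {a b : V}

/-- `L` is `O(Q)` or the kernel of the Dickson invariant. -/
theorem endgame (K : Conf B L a) (hdim : 4 ≤ finrank F V) (hb : Orb L a b)
    (D : QData B L a b Q) :
    (∀ g, g ∈ L ↔ g ∈ Orth Q) ∨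
      ∀ g, g ∈ L ↔ ∃ h : g ∈ Orth Q, Even (moved (⟨g, h⟩ : Orth Q)) := by
  have hp := D.polar_eq
  have hnd : NDPolar Q := fun x hx => K.symp.nd x fun y => by rw [← hp]; exact hx y
  have hLO : ∀ g ∈ L, g ∈ Orth Q := D.pres
  have hsu : ∀ x y, polar (⇑Q) x y = polar (⇑Q) y x := fun x y => polar_comm _ _ _
  -- non-zero singular vectors are in the orbit
  have horb : ∀ u, u ≠ 0 → Q u = 0 → Orb L a u := by
    have hoff : ∀ u, Q u = 0 → B a u ≠ 0 → Orb L a u := by
      intro u hu hau
      set z := (B a u)⁻¹ • u with hz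
      have haz : B a z = 1 := by rw [hz, map_smul, smul_eq_mul, inv_mul_cancel₀ hau]
      have hQz : Q z = 0 := by rw [hz, QuadraticMap.map_smul, hu, smul_zero]
      have hv : B a (z + b) = 0 := by rw [map_add, haz, D.pair, CharTwo.add_self_eq_zero]
      have hp' := Conf.orb_of_in (D.at_a _ hv) hb
      have e : uFun B a (z + b) (Q (z + b)) b = z := by
        have h2 : (2 : F) = 0 := CharTwo.two_eq_zero
        simp only [uFun, qadd hp, hQz, D.qb, map_add, K.symp.self, K.symp.symm b a, D.pair,
          K.symp.symm b z]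
        match_scalars <;>
          first
            | linear_combination (1 : F) * h2
            | linear_combination (B z b) * h2
            | ring
      rw [e] at hp'
      have h := Conf.orb_smul hau hp'
      rwa [hz, smul_smul, mul_inv_cancel₀ hau, one_smul] at h
    intro u hu0 hu
    obtain ⟨y, hy, huy⟩ := K.exists_partner hu0
    obtain ⟨k, g, hg, hk, rfl⟩ := hy
    have h1 : B a (g⁻¹ u) ≠ 0 := by
      rw [← K.pres g hg, show g (g⁻¹ u) = u by simp]
      intro h0
      rw [map_smul, smul_eq_mul, K.symp.symm u (g a), h0, mul_zero] at huy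
      exact zero_ne_one huy
    have h := Conf.orb_map hg (hoff (g⁻¹ u) (by rw [D.pres _ (inv_mem hg)]; exact hu) h1)
    rwa [show g (g⁻¹ u) = u by simp] at h
  -- the Siegel group lies in `L`
  let S : Subgroup (Orth Q) := L.comap (Orth Q).subtype
  have hN : siegelGroup Q ≤ S := by
    refine (Subgroup.closure_le _).2 ?_
    rintro _ ⟨u, w, hu, hw, rfl⟩
    rcases eq_or_ne u 0 with rfl | hu0
    · rw [show siegel Q 0 w hu hw = 1 from orth_ext fun x => by simp [siegel_apply]]
      exact one_mem _
    obtain ⟨k, h, hh, hk, rfl⟩ := horb u hu0 hu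
    obtain ⟨v, rfl⟩ := h.surjective w
    have hav : B a (k • v) = 0 := by
      rw [hp, map_smul, LinearMap.smul_apply, K.pres h hh] at hw
      rw [map_smul]; exact hw
    obtain ⟨s, hs, hsx⟩ := (D.at_a _ hav).conj K.pres hh
    have e : (siegel Q (k • h a) (h v) hu hw).1 = s := LinearEquiv.ext fun x => by
      rw [hsx, siegel_apply, hp, hp, uFun, D.pres h hh, QuadraticMap.map_smul]
      simp only [map_smul, smul_eq_mul, CharTwo.neg_eq, CharTwo.sub_eq_add]
      match_scalars <;> ring
    show (siegel Q (k • h a) (h v) hu hw).1 ∈ L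
    rw [e]; exact hs
  obtain ⟨v₀, hv₀⟩ : ∃ v, Q v ≠ 0 := by
    by_contra hcon
    push Not at hcon
    exact K.ne (hnd a fun y => by rw [polar, hcon, hcon, hcon, sub_zero, sub_zero])
  have hodd : ∀ g, refl Q v₀ * g ∈ siegelGroup Q → (moved g : ZMod 2) = 1 := by
    intro g hg
    have h := parity_siegelGroup hnd hdim hg
    rw [moved_refl_mul_parity hnd g hv₀] at h
    exact (CharTwo.add_eq_zero.1 h)
  by_cases hr : (refl Q v₀).1 ∈ L
  · refine Or.inl fun g => ⟨hLO g, fun hg => ?_⟩
    rcases cases_siegel hnd hdim hv₀ ⟨g, hg⟩ with h | h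
    · exact hN h
    · have h' : refl Q v₀ * (refl Q v₀ * ⟨g, hg⟩) ∈ S := mul_mem hr (hN h)
      rw [← mul_assoc, refl_mul_self, one_mul] at h'
      exact h'
  · refine Or.inr fun g => ⟨fun hg => ⟨hLO g hg, ?_⟩, fun ⟨hg, he⟩ => ?_⟩
    · rw [← ZMod.natCast_eq_zero_iff_even]
      rcases cases_siegel hnd hdim hv₀ ⟨g, hLO g hg⟩ with h | h
      · exact parity_siegelGroup hnd hdim h
      · refine absurd ?_ hr
        have h' : refl Q v₀ * ⟨g, hLO g hg⟩ * (⟨g, hLO g hg⟩ : Orth Q)⁻¹ ∈ S :=
          mul_mem (hN h) (inv_mem (x := (⟨g, hLO g hg⟩ : Orth Q)) (show _ ∈ S from hg))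
        rwa [mul_inv_cancel_right] at h'
    · rcases cases_siegel hnd hdim hv₀ ⟨g, hg⟩ with h | h
      · exact hN h
      · have h1 := hodd _ h
        rw [← ZMod.natCast_eq_zero_iff_even] at he
        rw [he] at h1
        exact absurd h1 (by decide)

end CfsgLib.SpOver
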