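import Cfsg.Agent.Lib.SpOver.Homog

/-!
No transvection at `a`: either `L` preserves a quadratic form with polar `B` or, over two elements
only, every non-zero vector is in the orbit.
-/

set_option autoImplicit false

namespace CfsgLib.SpOver

open Module QuadraticMap

variable {F V : Type*} [Field F] [CharP F 2] [AddCommGroup V] [Module F V]
  {B : LinearMap.BilinForm F V} {L : Subgroup (V ≃ₗ[F] V)} {a : V}

/-- `L` preserves `Q` and contains the families at `a` and `b` attached to it. -/
structure QData (B : LinearMap.BilinForm F V) (L : Subgroup (V ≃ₗ[F] V)) (a b : V)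
    (Q : QuadraticForm F V) : Prop where
  polar_eq : ∀ x y, polar (⇑Q) x y = B x y
  qa : Q a = 0
  qb : Q b = 0
  pair : B a b = 1
  pres : ∀ g ∈ L, ∀ x, Q (g x) = Q x
  at_a : ∀ v, B a v = 0 → In B L a v (Q v)
  at_b : ∀ v, B b v = 0 → In B L b v (Q v)

omit [CharP F 2] in
theorem qadd {Q : QuadraticForm F V} (hQ : ∀ x y, polar (⇑Q) x y = B x y) (x y : V) :
    Q (x + y) = Q x + Q y + B x y := by
  rw [QuadraticMap.map_add Q, hQ]

theorem q_uFun (hB : IsSymp B) {Q : QuadraticForm F V} (hQ : ∀ x y, polar (⇑Q) x y = B x y)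
    {u w : V} (hu : Q u = 0) (hw : B u w = 0) (x : V) : Q (uFun B u w (Q w) x) = Q x := by
  have h2 : (2 : F) = 0 := CharTwo.two_eq_zero
  simp only [uFun, qadd hQ, QuadraticMap.map_smul, hu, map_add, LinearMap.add_apply, map_smul,
    LinearMap.smul_apply, hB.self, hB.symm w u, hw, smul_eq_mul]
  linear_combination
    ((B x u) * (B x u) * (Q w) + (B x u) * (B x w)) * h2

namespace Conf₀

variable (K : Conf₀ B L a)
include K

theorem good_smul {b : V} (hab : B a b = 1) (hG : K.Good b) {v : V} (hv : B a v = 0)
    (s : F) : ph B L a (s • v) = s * s * ph B L a v := by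
  have hba : B b a = 1 := by rw [K.symp.symm, hab]
  set w := v + B b v • a with hw
  have haw : B a w = 0 := by rw [hw, map_add, map_smul, hv, K.symp.self, smul_zero, add_zero]
  have hbw : B b w = 0 := by
    rw [hw, map_add, map_smul, hba, smul_eq_mul, mul_one, CharTwo.add_self_eq_zero]
  have h1 : ph B L a w = ph B L a v := K.ph_mod K.toConf.orb_self hv _
  have h2 : ph B L a (s • w) = ph B L a (s • v) := by
    rw [hw, smul_add, smul_smul, K.ph_mod K.toConf.orb_self (by rw [map_smul, hv, smul_zero])]
  rw [← h2, (hG w haw hbw).2 s, h1]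

omit [CharP F 2] K in
theorem perp_proj [CharP F 2] (hB : IsSymp B) {b : V} (hab : B a b = 1) (x : V) :
    B a (x + B x a • b) = 0 := by
  rw [map_add, map_smul, hab, smul_eq_mul, mul_one, hB.symm x a, CharTwo.add_self_eq_zero]

/-- The quadratic form. -/
noncomputable def qform {b : V} (hab : B a b = 1) (hG : K.Good b) : QuadraticForm F V where
  toFun x := B x a * B x b + ph B L a (x + B x a • b)
  toFun_smul k x := by
    have e : k • x + B (k • x) a • b = k • (x + B x a • b) := by
      rw [smul_add, smul_smul, map_smul, LinearMap.smul_apply, smul_eq_mul]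
    rw [e, K.good_smul hab hG (perp_proj K.symp hab x)]
    simp only [map_smul, LinearMap.smul_apply, smul_eq_mul]
    ring
  exists_companion' := ⟨B, fun x y => by
    have e : x + y + B (x + y) a • b = (x + B x a • b) + (y + B y a • b) := by
      rw [map_add, LinearMap.add_apply, add_smul]; abel
    rw [e, K.ph_add K.toConf.orb_self (perp_proj K.symp hab x) (perp_proj K.symp hab y)]
    simp only [map_add, map_smul, LinearMap.add_apply, LinearMap.smul_apply, smul_eq_mul,
      K.symp.self, K.symp.symm b y]
    linear_combination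
      (B x a * B y b + B y a * B x b) * (CharTwo.two_eq_zero : (2 : F) = 0)⟩

theorem qform_apply {b : V} (hab : B a b = 1) (hG : K.Good b) (x : V) :
    K.qform hab hG x = B x a * B x b + ph B L a (x + B x a • b) := rfl

theorem qform_polar {b : V} (hab : B a b = 1) (hG : K.Good b) (x y : V) :
    polar (⇑(K.qform hab hG)) x y = B x y := by
  rw [polar, sub_sub, sub_eq_iff_eq_add']
  simp only [qform_apply]
  have e : x + y + B (x + y) a • b = (x + B x a • b) + (y + B y a • b) := by
    rw [map_add, LinearMap.add_apply, add_smul]; abel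
  rw [e, K.ph_add K.toConf.orb_self (perp_proj K.symp hab x) (perp_proj K.symp hab y)]
  simp only [map_add, map_smul, LinearMap.add_apply, LinearMap.smul_apply, smul_eq_mul,
    K.symp.self, K.symp.symm b y]
  linear_combination
    (B x a * B y b + B y a * B x b) * (CharTwo.two_eq_zero : (2 : F) = 0)

theorem qform_perp {b : V} (hab : B a b = 1) (hG : K.Good b) {z : V} (hz : B a z = 0) :
    K.qform hab hG z = ph B L a z := by
  rw [qform_apply, K.symp.symm z a, hz, zero_mul, zero_add, zero_smul, add_zero]

theorem qform_perp' {b : V} (hb : Orb L a b) (hab : B a b = 1) (hG : K.Good b) {z : V}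
    (hz : B b z = 0) : K.qform hab hG z = ph B L b z := by
  set w := z + B z a • b with hw
  have haw : B a w = 0 := perp_proj K.symp hab z
  have hbw : B b w = 0 := by rw [hw, map_add, map_smul, hz, K.symp.self, smul_zero, add_zero]
  rw [qform_apply, K.symp.symm z b, hz, mul_zero, zero_add, ← hw, ← (hG w haw hbw).1,
    hw, K.ph_mod hb hz]

/-- `L` preserves the form once the normalised partners of `a` in the orbit are singular. -/
theorem qdata [FiniteDimensional F V] (hdim : 4 ≤ finrank F V) {b : V} (hb : Orb L a b)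
    (hab : B a b = 1) (hG : K.Good b)
    (hlev : ∀ x, Orb L a x → B a x = 1 → K.qform hab hG x = 0) :
    QData B L a b (K.qform hab hG) := by
  set Q := K.qform hab hG with hQdef
  have hpol : ∀ x y, polar (⇑Q) x y = B x y := K.qform_polar hab hG
  have hba : B b a = 1 := by rw [K.symp.symm, hab]
  have ha := K.toConf.orb_self
  have h2 : (2 : F) = 0 := CharTwo.two_eq_zero
  have hQa : Q a = 0 := by rw [hQdef, K.qform_perp hab hG (K.symp.self a)]; exact (by
    simpa using K.ph_mod ha (map_zero (B a)) 1 |>.trans (K.ph_zero ha))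
  have hQb : Q b = 0 := by
    rw [hQdef, K.qform_apply, K.symp.self, mul_zero, zero_add, hba, one_smul, ← two_smul F b, h2,
      zero_smul, K.ph_zero ha]
  have hina : ∀ v, B a v = 0 → In B L a v (Q v) := fun v hv => by
    rw [hQdef, K.qform_perp hab hG hv]; exact K.ph_spec ha hv
  have hinb : ∀ v, B b v = 0 → In B L b v (Q v) := fun v hv => by
    rw [hQdef, K.qform_perp' hb hab hG hv]; exact K.ph_spec hb hv
  -- an element of `L` preserving `Q` and moving `a` to a multiple of `b`
  obtain ⟨w, hw0, haw, hbw⟩ : ∃ w, Q w ≠ 0 ∧ B a w = 0 ∧ B b w = 0 := by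
    obtain ⟨w, hw, haw, hbw⟩ := exists_orth_pair hdim B a b
    obtain ⟨y₀, hy₀⟩ := K.symp.exists_pair hw
    set y := y₀ + B a y₀ • b + B b y₀ • a with hy
    have hay : B a y = 0 := by
      simp [hy, map_add, map_smul, hab, K.symp.self, CharTwo.add_self_eq_zero]
    have hby : B b y = 0 := by
      simp [hy, map_add, map_smul, hba, K.symp.self, CharTwo.add_self_eq_zero]
    have hwy : B w y = 1 := by
      simp [hy, map_add, map_smul, hy₀, K.symp.symm w a, K.symp.symm w b, haw, hbw]
    by_cases h1 : Q w = 0
    · by_cases h3 : Q y = 0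
      · refine ⟨w + y, ?_, by rw [map_add, haw, hay, add_zero], by rw [map_add, hbw, hby, add_zero]⟩
        rw [qadd hpol, h1, h3, hwy, zero_add, zero_add]
        exact one_ne_zero
      · exact ⟨y, h3, hay, hby⟩
    · exact ⟨w, h1, haw, hbw⟩
  obtain ⟨g₁, hg₁, hg₁x⟩ := hinb w hbw
  obtain ⟨g₂, hg₂, hg₂x⟩ := hina ((Q w)⁻¹ • w) (by rw [map_smul, haw, smul_zero])
  have q1 : ∀ x, Q (g₁ x) = Q x := fun x => by
    rw [hg₁x]; exact q_uFun K.symp hpol hQb hbw x
  have q2 : ∀ x, Q (g₂ x) = Q x := fun x => by
    rw [hg₂x]; exact q_uFun K.symp hpol hQa (by rw [map_smul, haw, smul_zero]) x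
  have hswap : g₂ (Q w • b) = g₁ a := by
    rw [map_smul, hg₂x, hg₁x, uFun, uFun, QuadraticMap.map_smul, hba, map_smul, hbw, hab, haw]
    simp only [smul_add, smul_smul, smul_eq_mul, mul_zero, mul_one, zero_smul, add_zero]
    field_simp
    simp only [one_smul]
    abel
  -- every point of the orbit is singular
  have hsing : ∀ x, Orb L a x → Q x = 0 := by
    have hoff : ∀ x, Orb L a x → B a x ≠ 0 → Q x = 0 := by
      intro x hx hax
      have h := hlev _ (Conf.orb_smul (inv_ne_zero hax) hx)
        (by rw [map_smul, smul_eq_mul, inv_mul_cancel₀ hax])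
      rw [QuadraticMap.map_smul, smul_eq_mul, mul_eq_zero] at h
      exact h.resolve_left (mul_ne_zero (inv_ne_zero hax) (inv_ne_zero hax))
    intro x hx
    by_cases hax : B a x = 0
    · by_cases hl : ∃ l : F, x = l • a
      · obtain ⟨l, rfl⟩ := hl
        rw [QuadraticMap.map_smul, hQa, smul_zero]
      push Not at hl
      obtain ⟨v, hav, hxv⟩ := K.symp.exists_sep hl (1 + B x b)
      obtain ⟨g, hg, hgx⟩ := hina v hav
      have q3 : ∀ y, Q (g y) = Q y := fun y => by rw [hgx]; exact q_uFun K.symp hpol hQa hav y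
      have hs : B (g b) x = 1 := by
        rw [hgx, uFun]
        simp only [hba, map_add, map_smul, LinearMap.add_apply, LinearMap.smul_apply, smul_eq_mul,
          hax, K.symp.symm v x, hxv, K.symp.symm b x]
        linear_combination (B x b) * h2
      -- `h a` is a multiple of `g b`
      set h : V ≃ₗ[F] V := g * (g₂⁻¹ * g₁) with hh
      have hh1 : h ∈ L := mul_mem hg (mul_mem (inv_mem hg₂) hg₁)
      have hqh : ∀ y, Q (h y) = Q y := fun y => by
        rw [hh, LinearEquiv.mul_apply, q3, LinearEquiv.mul_apply, ← q2 (g₂⁻¹ (g₁ y))]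
        simp [q1]
      have hha : h a = Q w • g b := by
        rw [hh, LinearEquiv.mul_apply, LinearEquiv.mul_apply, ← hswap, ← map_smul g]
        simp
      have hx' : Orb L a (h⁻¹ x) := Conf.orb_map (inv_mem hh1) hx
      have hne : B a (h⁻¹ x) ≠ 0 := by
        have e := K.pres h hh1 a (h⁻¹ x)
        rw [hha, map_smul, LinearMap.smul_apply] at e
        rw [← e, show h (h⁻¹ x) = x by simp, hs, smul_eq_mul, mul_one]
        exact hw0
      have := hoff _ hx' hne
      rwa [← hqh, show h (h⁻¹ x) = x by simp] at this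
    · exact hoff x hx hax
  refine ⟨hpol, hQa, hQb, hab, fun g hg x => CharTwo.add_eq_zero.1 ?_, hina, hinb⟩
  have hx : x ∈ Submodule.span F {y | Orb L a y} := by rw [K.toConf.span_orb]; trivial
  induction hx using Submodule.span_induction with
  | mem y hy => rw [hsing y hy, hsing _ (Conf.orb_map hg hy), add_zero]
  | zero => simp
  | add y z _ _ ihy ihz =>
    rw [map_add, qadd hpol, qadd hpol, K.pres g hg]
    linear_combination ihy + ihz + (B y z) * h2
  | smul k y _ ih =>
    rw [map_smul, QuadraticMap.map_smul, QuadraticMap.map_smul, smul_eq_mul, smul_eq_mul]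
    linear_combination (k * k) * ih

/-- More than two elements: `L` preserves a quadratic form. -/
theorem exists_qdata [Finite F] [FiniteDimensional F V] (hdim : 4 ≤ finrank F V)
    (hq : ∃ k : F, k ≠ 0 ∧ k ≠ 1) : ∃ b Q, Orb L a b ∧ QData B L a b Q := by
  obtain ⟨b, hb, hab⟩ := K.toConf.exists_partner K.ne
  have hG := K.good hdim hq hb hab
  refine ⟨b, _, hb, K.qdata hdim hb hab hG fun x hx hax => ?_⟩
  set Q := K.qform hab hG with hQdef
  have hpol : ∀ x y, polar (⇑Q) x y = B x y := K.qform_polar hab hG
  have ha := K.toConf.orb_self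
  have hba : B b a = 1 := by rw [K.symp.symm, hab]
  have h2 : (2 : F) = 0 := CharTwo.two_eq_zero
  have hQa : Q a = 0 := by rw [hQdef, K.qform_perp hab hG (K.symp.self a)]; exact (by
    simpa using K.ph_mod ha (map_zero (B a)) 1 |>.trans (K.ph_zero ha))
  have hQb : Q b = 0 := by
    rw [hQdef, K.qform_apply, K.symp.self, mul_zero, zero_add, hba, one_smul, ← two_smul F b, h2,
      zero_smul, K.ph_zero ha]
  by_contra hne
  -- move `x` into the line of `a` and `b`
  set u := x + b + B b x • a with hu
  have hau : B a u = 0 := by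
    simp [hu, map_add, hax, hab, K.symp.self, CharTwo.add_self_eq_zero]
  have hbu : B b u = 0 := by
    simp [hu, map_add, hba, K.symp.self, CharTwo.add_self_eq_zero]
  obtain ⟨g, hg, hgx⟩ := K.ph_spec ha hau
  rw [← K.qform_perp hab hG hau, ← hQdef] at hgx
  set y := g x with hy
  have hQy : Q y = Q x := by rw [hy, hgx]; exact q_uFun K.symp hpol hQa hau x
  have hye : y = b + (B b x + Q u) • a := by
    rw [hy, hgx, uFun, K.symp.symm x a, hax, one_smul, mul_one]
    have e : B x u = 0 := by
      rw [hu, map_add, map_add, K.symp.self, map_smul, K.symp.symm x a, hax, K.symp.symm x b]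
      simp [CharTwo.add_self_eq_zero]
    rw [e, zero_smul, add_zero, hu]
    match_scalars <;>
      first
        | linear_combination (1 : F) * h2
        | linear_combination (0 : F) * h2
        | ring
  set c := B b x + Q u with hc
  have hQc : Q y = c := by
    rw [hye, qadd hpol, hQb, QuadraticMap.map_smul, hQa, map_smul, hba]
    simp
  have hc0 : c ≠ 0 := fun h => hne (by rw [← hQy, hQc, h])
  obtain ⟨w, hw0, haw, hbw⟩ : ∃ w, Q w ≠ 0 ∧ B a w = 0 ∧ B b w = 0 := by
    by_contra hcon
    push Not at hcon
    obtain ⟨w, hw, haw, hbw⟩ := exists_orth_pair hdim B a b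
    obtain ⟨y₀, hy₀⟩ := K.symp.exists_pair hw
    set z := y₀ + B a y₀ • b + B b y₀ • a with hz
    have haz : B a z = 0 := by
      simp [hz, map_add, map_smul, hab, K.symp.self, CharTwo.add_self_eq_zero]
    have hbz : B b z = 0 := by
      simp [hz, map_add, map_smul, hba, K.symp.self, CharTwo.add_self_eq_zero]
    have hwz : B w z = 1 := by
      simp [hz, map_add, map_smul, hy₀, K.symp.symm w a, K.symp.symm w b, haw, hbw]
    have h := hcon (w + z)
    rw [qadd hpol, hwz] at h
    by_cases h1 : Q w = 0
    · by_cases h3 : Q z = 0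
      · exact h (by rw [h1, h3, zero_add, zero_add]; exact one_ne_zero)
          (by rw [map_add, haw, haz, add_zero]) (by rw [map_add, hbw, hbz, add_zero])
      · exact hcon z h3 haz hbz
    · exact hcon w h1 haw hbw
  obtain ⟨s, hs⟩ := FiniteField.isSquare_of_char_two (ringChar.eq F 2) ((c * Q w)⁻¹)
  set v := s • w with hv
  have hav : B a v = 0 := by rw [hv, map_smul, haw, smul_zero]
  have hbv : B b v = 0 := by rw [hv, map_smul, hbw, smul_zero]
  have hQv : Q v = c⁻¹ := by
    rw [hv, QuadraticMap.map_smul, smul_eq_mul, ← hs, mul_inv, mul_assoc,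
      inv_mul_cancel₀ hw0, mul_one]
  obtain ⟨h, hh, hhx⟩ := K.ph_spec hb hbv
  rw [← K.qform_perp' hb hab hG hbv, ← hQdef] at hhx
  have hqh : ∀ z, Q (h z) = Q z := fun z => by rw [hhx]; exact q_uFun K.symp hpol hQb hbv z
  have hha : h a = a + v + c⁻¹ • b := by
    rw [hhx, uFun, hab, hav, hQv]; simp
  have hperp : B (h a) y = 0 := by
    rw [hha, hye]
    simp only [map_add, map_smul, LinearMap.add_apply, LinearMap.smul_apply, smul_eq_mul,
      K.symp.self, hab, hba, K.symp.symm v a, hav, K.symp.symm v b, hbv]
    field_simp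
    simp [CharTwo.add_self_eq_zero]
  have hhy : Orb L a (g x) := Conf.orb_map hg hx
  have hne' : ∀ k : F, h a ≠ k • y := by
    intro k hk
    have h1 := congrArg (fun z => Q z) hk
    simp only [QuadraticMap.map_smul, hqh, hQa, hQc, smul_eq_mul] at h1
    rcases mul_eq_zero.1 h1.symm with h3 | h3
    · rw [mul_self_eq_zero.1 h3, zero_smul] at hk
      exact K.ne ((LinearEquiv.map_eq_zero_iff h).1 hk)
    · exact hc0 h3
  have hfin := K.ph_orth hq hhy (Conf.orb_map hh ha) (by rw [K.symp.symm]; exact hperp) hne' 1
  rw [one_smul] at hfin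
  have hay : B a (h⁻¹ y) = 0 := by
    rw [← K.pres h hh a (h⁻¹ y), show h (h⁻¹ y) = y by simp, hperp]
  have e := K.ph_map ha hay hh
  rw [show h (h⁻¹ y) = y by simp, hfin, ← K.qform_perp hab hG hay, ← hQdef, ← hqh,
    show h (h⁻¹ y) = y by simp, hQc] at e
  exact hc0 e.symm

/-- Two elements: a quadratic form, or every non-zero vector is in the orbit. -/
theorem exists_qdata_or [FiniteDimensional F V] (hdim : 4 ≤ finrank F V)
    (hq : ∀ k : F, k = 0 ∨ k = 1) : (∃ b Q, Orb L a b ∧ QData B L a b Q) ∨ ∀ z, z ≠ 0 → Orb L a z := by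
  obtain ⟨b, hb, hab⟩ := K.toConf.exists_partner K.ne
  have ha := K.toConf.orb_self
  have hba : B b a = 1 := by rw [K.symp.symm, hab]
  have h2 : (2 : F) = 0 := CharTwo.two_eq_zero
  by_cases hL : K.Level b
  · left
    have hpair : ∀ x y, Orb L a x → Orb L a y → B a x = 1 → B a y = 1 →
        ph B L a (x + y) = B y x := by
      intro x y hx hy hax hay
      have e : x + y = (x + b) + (y + b) := by
        rw [add_add_add_comm, ← two_smul F b, h2, zero_smul, add_zero]
      rw [e, K.ph_add ha (by rw [map_add, hax, hab, CharTwo.add_self_eq_zero])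
        (by rw [map_add, hay, hab, CharTwo.add_self_eq_zero]), hL x hx hax, hL y hy hay]
      simp only [map_add, LinearMap.add_apply, K.symp.self, K.symp.symm x y, K.symp.symm x b]
      linear_combination (B b x + B b y) * h2
    have hL' : ∀ w, B a w = 0 → B b w = 0 → ph B L a w = 1 → ph B L b w = 1 := by
      intro w haw hbw hw
      have hp := Conf.orb_of_in (K.ph_spec ha haw) hb
      rw [uFun, hba, hbw, hw, one_smul, zero_smul, add_zero, one_mul, one_smul] at hp
      obtain ⟨k, g, hg, hk, hgb⟩ := hb
      rw [(hq k).resolve_left hk, one_smul] at hgb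
      subst hgb
      have hba' : ∀ z, B a (g⁻¹ z) = B (g a) z := fun z => by
        rw [← K.pres g hg a (g⁻¹ z), show g (g⁻¹ z) = z by simp]
      have h := hpair (g⁻¹ (g a + w + a)) (g⁻¹ a) (Conf.orb_map (inv_mem hg) hp)
        (Conf.orb_map (inv_mem hg) ha)
        (by rw [hba', map_add, map_add, K.symp.self, hbw, hba, zero_add, zero_add])
        (by rw [hba', hba])
      have hperp : B a (g⁻¹ (g a + w + a) + g⁻¹ a) = 0 := by
        rw [map_add, hba', hba', map_add, map_add, K.symp.self, hbw, hba, zero_add, zero_add,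
          CharTwo.add_self_eq_zero]
      have e : g (g⁻¹ (g a + w + a) + g⁻¹ a) = w + (1 : F) • g a := by
        rw [map_add, show ∀ z, g (g⁻¹ z) = z from fun z => by simp,
          show g (g⁻¹ a) = a by simp, one_smul, add_assoc, ← two_smul F a, h2, zero_smul, add_zero,
          add_comm]
      rw [← K.ph_map ha hperp hg, e, K.ph_mod (Conf.orb_map hg ha) hbw,
        ← K.pres g hg, show g (g⁻¹ a) = a by simp,
        show g (g⁻¹ (g a + w + a)) = g a + w + a by simp] at h
      rw [h, map_add, map_add, hab, haw, K.symp.self, add_zero, add_zero]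
    have hG := K.good_two hq hb hab hL hL'
    refine ⟨b, _, hb, K.qdata hdim hb hab hG fun x hx hax => ?_⟩
    rw [K.qform_apply, K.symp.symm x a, hax, one_mul, one_smul, hL x hx hax, K.symp.symm x b]
    linear_combination (B b x) * h2
  · right
    obtain ⟨x₀, hx₀, hax₀, hne⟩ : ∃ x, Orb L a x ∧ B a x = 1 ∧ ph B L a (x + b) ≠ B b x := by
      simpa [Level] using hL
    have hu₀ : B a (x₀ + b) = 0 := by rw [map_add, hax₀, hab, CharTwo.add_self_eq_zero]
    have ht : ph B L a (x₀ + b) + B b x₀ = 1 :=
      (hq _).resolve_left fun h => hne (CharTwo.add_eq_zero.1 h)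
    have off : ∀ z, B a z = 1 → Orb L a z := by
      intro z haz
      have hu : B a (z + b) = 0 := by rw [map_add, haz, hab, CharTwo.add_self_eq_zero]
      rcases hq (ph B L a (z + b) + B b z) with h | h
      · have hp := Conf.orb_of_in (K.ph_spec ha hu) hb
        have e : uFun B a (z + b) (ph B L a (z + b)) b = z := by
          simp only [uFun, hba, map_add, K.symp.self]
          match_scalars <;>
            first
              | linear_combination (1 : F) * h2
              | linear_combination h
              | ring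
        rwa [e] at hp
      · have hv : B a (z + x₀) = 0 := by rw [map_add, haz, hax₀, CharTwo.add_self_eq_zero]
        have hp := Conf.orb_of_in (K.ph_spec ha hv) hx₀
        have e1 : ph B L a (z + x₀) = ph B L a (z + b) + ph B L a (x₀ + b) + B (z + b) (x₀ + b) := by
          rw [← K.ph_add ha hu hu₀, add_add_add_comm, ← two_smul F b, h2, zero_smul, add_zero]
        have e : uFun B a (z + x₀) (ph B L a (z + x₀)) x₀ = z := by
          simp only [uFun, K.symp.symm x₀ a, hax₀, map_add, LinearMap.add_apply, K.symp.self,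
            K.symp.symm x₀ z, e1, K.symp.symm x₀ b, K.symp.symm z b]
          match_scalars <;>
            first
              | linear_combination (1 : F) * h2
              | linear_combination h + ht + (B z x₀ + 1) * h2
              | ring
        rwa [e] at hp
    intro z hz
    by_cases hza : z = a
    · exact hza ▸ ha
    rcases hq (B a z) with haz | haz
    · obtain ⟨v, hav, hzv⟩ := K.symp.exists_sep (x := z) (y := a) (fun k hk => by
        rcases hq k with rfl | rfl
        · exact hz (by rw [hk, zero_smul])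
        · exact hza (by rw [hk, one_smul])) (1 + B z b)
      set s := b + v with hs
      have has : B a s = 1 := by rw [hs, map_add, hab, hav, add_zero]
      have hzs : B s z = 1 := by
        rw [K.symp.symm, hs, map_add, hzv, add_left_comm, CharTwo.add_self_eq_zero, add_zero]
      obtain ⟨k, g, hg, hk, hgs⟩ := off s has
      rw [(hq k).resolve_left hk, one_smul] at hgs
      have h1 : B a (g⁻¹ z) = 1 := by
        rw [← K.pres g hg, show g (g⁻¹ z) = z by simp, ← hgs, hzs]
      have h3 := Conf.orb_map hg (off _ h1)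
      rwa [show g (g⁻¹ z) = z by simp] at h3
    · exact off z haz

end Conf₀

end CfsgLib.SpOver
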