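import Cfsg.Agent.Lib.SpOver.Transvection

/-!
No transvection at `a`: the parameter function is homogeneous quadratic and the same seen from a
partner `b`.
-/

set_option autoImplicit false

namespace CfsgLib.SpOver

open Module

variable {F V : Type*} [Field F] [CharP F 2] [AddCommGroup V] [Module F V]
  {B : LinearMap.BilinForm F V} {L : Subgroup (V ≃ₗ[F] V)} {a : V}

omit [CharP F 2] in
/-- The parameter `c` of the element with first parameter `v`. -/
noncomputable def ph (B : LinearMap.BilinForm F V) (L : Subgroup (V ≃ₗ[F] V)) (x v : V) : F :=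
  Classical.epsilon fun c => In B L x v c

/-- No transvection at `a`. -/
structure Conf₀ (B : LinearMap.BilinForm F V) (L : Subgroup (V ≃ₗ[F] V)) (a : V) : Prop
    extends Conf B L a where
  noTr : ∀ c, In B L a 0 c → c = 0

/-- A semilinearity criterion for additive maps of a finite field of characteristic two. -/
theorem hua [Finite F] {f g : F → F} (hf : ∀ x y, f (x + y) = f x + f y)
    (hg : ∀ x y, g (x + y) = g x + g y) (h : ∀ x, x ≠ 0 → g x = x * x * f x⁻¹) (y : F) :
    g y = g 1 * y := by
  have h2 : (2 : F) = 0 := CharTwo.two_eq_zero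
  obtain ⟨x, rfl⟩ := FiniteField.isSquare_of_char_two (ringChar.eq F 2) y
  have hg0 : g 0 = 0 := by have := hg 0 0; rw [add_zero, left_eq_add] at this; exact this
  rcases eq_or_ne x 0 with rfl | hx
  · rw [mul_zero, hg0, mul_zero]
  rcases eq_or_ne x 1 with rfl | hx1
  · rw [mul_one, mul_one]
  have hx1' : 1 + x ≠ 0 := fun h0 => hx1 (CharTwo.add_eq_zero.1 h0).symm
  have hxx : x + x * x ≠ 0 := by
    rw [show x + x * x = x * (1 + x) by ring]; exact mul_ne_zero hx hx1'
  have hinv : (x + x * x)⁻¹ = x⁻¹ + (1 + x)⁻¹ := by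
    field_simp
    linear_combination (-(x : F)) * h2
  have e1 := h _ hxx
  rw [hinv, hf, hg] at e1
  have e2 := h x hx
  have e3 := h (1 + x) hx1'
  rw [hg] at e3
  linear_combination e1 - (1 + x) * (1 + x) * e2 - x * x * e3 + (x * g x + x * x * g x) * h2

omit [CharP F 2] in
theorem bijective_of_injective [Finite F] {f : F → F} (h : Function.Injective f) :
    Function.Bijective f := Finite.injective_iff_bijective.1 h

namespace Conf₀

variable (K : Conf₀ B L a)
include K

theorem noTr_orb {x : V} (hx : Orb L a x) {c : F} (h : In B L x 0 c) : c = 0 := by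
  obtain ⟨k, g, hg, hk, rfl⟩ := hx
  have h1 := K.noTr _ ((K.toConf.tr_map hg).1 (K.toConf.tr_smul.1 h))
  exact (mul_eq_zero.1 h1).resolve_left (mul_ne_zero hk hk)

theorem ph_spec {x v : V} (hx : Orb L a x) (hv : B x v = 0) : In B L x v (ph B L x v) :=
  Classical.epsilon_spec (K.toConf.hyp_of_orb hx hv)

theorem ph_eq {x v : V} {c : F} (hx : Orb L a x) (hv : B x v = 0) (h : In B L x v c) :
    ph B L x v = c := by
  have h1 := h.mul K.symp (K.ph_spec hx hv) hv hv
  rw [K.symp.self, add_zero, ← two_smul F v, CharTwo.two_eq_zero, zero_smul] at h1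
  exact (CharTwo.add_eq_zero.1 (K.noTr_orb hx h1)).symm

theorem ph_add {x v v' : V} (hx : Orb L a x) (hv : B x v = 0) (hv' : B x v' = 0) :
    ph B L x (v + v') = ph B L x v + ph B L x v' + B v v' :=
  K.ph_eq hx (by rw [map_add, hv, hv', add_zero])
    ((K.ph_spec hx hv).mul K.symp (K.ph_spec hx hv') hv hv')

theorem ph_zero {x : V} (hx : Orb L a x) : ph B L x 0 = 0 :=
  K.ph_eq hx (map_zero _) (in_zero B L x)

theorem ph_mod {x v : V} (hx : Orb L a x) (hv : B x v = 0) (k : F) :
    ph B L x (v + k • x) = ph B L x v :=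
  K.ph_eq hx (by rw [map_add, map_smul, K.symp.self, hv, smul_zero, add_zero])
    ((In.mod_self K.symp k).2 (K.ph_spec hx hv))

theorem ph_map {x v : V} (hx : Orb L a x) (hv : B x v = 0) {g : V ≃ₗ[F] V} (hg : g ∈ L) :
    ph B L (g x) (g v) = ph B L x v :=
  K.ph_eq (Conf.orb_map hg hx) (by rw [K.pres g hg, hv]) ((K.ph_spec hx hv).conj K.pres hg)

theorem ph_symm {x y : V} (hx : Orb L a x) (hy : Orb L a y) (hxy : B x y = 0) {s : F}
    (h : ph B L x (s • y) = 0) : ph B L y (s • x) = 0 := by
  have h1 := K.ph_spec hx (v := s • y) (by rw [map_smul, hxy, smul_zero])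
  rw [h, In.symm_iff K.symp, In.smul_iff K.symp, mul_zero] at h1
  exact K.ph_eq hy (by rw [map_smul, K.symp.symm y x, hxy, smul_zero]) h1

variable [FiniteDimensional F V]

/-- Over more than two elements orthogonal points of the orbit span singular lines. -/
theorem ph_orth (hq : ∃ k : F, k ≠ 0 ∧ k ≠ 1) {x y : V} (hx : Orb L a x) (hy : Orb L a y)
    (hxy : B x y = 0) (hne : ∀ k : F, y ≠ k • x) (s : F) : ph B L y (s • x) = 0 := by
  have hyx : B y x = 0 := by rw [K.symp.symm, hxy]
  have hys : ∀ t : F, B y (t • x) = 0 := fun t => by rw [map_smul, hyx, smul_zero]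
  have hxs : ∀ t : F, B x (t • y) = 0 := fun t => by rw [map_smul, hxy, smul_zero]
  have key : ∀ t : F, ph B L y (t • x) ≠ 0 →
      ∀ r : F, ph B L x (r • y) = r * r / ph B L y (t • x) := by
    intro t ht r
    set c := ph B L y (t • x) with hc
    obtain ⟨w, hxw, hyw⟩ := K.symp.exists_sep hne (r / c)
    obtain ⟨g, hg, hgx⟩ := K.ph_spec hy (hys t)
    rw [← hc] at hgx
    have h1 : g x = x := by
      rw [hgx]; exact uFun_fix hxy (by rw [map_smul, K.symp.self, smul_zero])
    have h2 : g w = w + r • y + (r / c * t) • x := by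
      rw [hgx]
      simp only [uFun, map_smul, smul_eq_mul, K.symp.symm w y, hyw, K.symp.symm w x, hxw,
        mul_zero, zero_smul, add_zero, smul_smul, mul_div_cancel₀ r ht]
      abel
    have h3 := K.ph_map hx hxw hg
    rw [h1, h2, K.ph_mod hx (by rw [map_add, map_smul, hxw, hxy, smul_zero, add_zero]),
      K.ph_add hx hxw (hxs r), map_smul, K.symp.symm w y, hyw, smul_eq_mul] at h3
    rw [mul_div_assoc]
    have h2 : (2 : F) = 0 := CharTwo.two_eq_zero
    linear_combination h3 - (r * (r / c)) * h2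
  by_contra hs
  obtain ⟨k, hk0, hk1⟩ := hq
  have hall : ∀ t : F, t ≠ 0 → ph B L y (t • x) = ph B L y (s • x) := by
    intro t ht
    have ht' : ph B L y (t • x) ≠ 0 := by
      intro h0
      have h := key s hs t
      rw [K.ph_symm hy hx hyx h0, eq_comm, div_eq_zero_iff] at h
      exact h.elim (fun h => ht (mul_self_eq_zero.1 h)) hs
    have h := key t ht' 1
    rw [key s hs 1, mul_one, one_div, one_div, inv_inj] at h
    exact h.symm
  have h := K.ph_add hy (hys k) (hys 1)
  have hk1' : k + 1 ≠ 0 := fun h0 => hk1 (CharTwo.add_eq_zero.1 h0)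
  rw [← add_smul, hall _ hk1', hall k hk0, hall 1 one_ne_zero] at h
  simp only [map_smul, LinearMap.smul_apply, K.symp.self, smul_zero, add_zero,
    CharTwo.add_self_eq_zero] at h
  exact hs h

/-- A zero seen from `y` gives a whole line of zeros seen from its partner `x`. -/
theorem zero_line (hq : ∃ k : F, k ≠ 0 ∧ k ≠ 1) {x y : V} (hx : Orb L a x) (hy : Orb L a y)
    (hxy : B x y = 1) {w : V} (hxw : B x w = 0) (hyw : B y w = 0) (hz : ph B L y w = 0) (s : F) :
    ph B L x (s • w) = 0 := by
  rcases eq_or_ne w 0 with rfl | hw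
  · rw [smul_zero]; exact K.ph_zero hx
  have h := K.ph_spec hy hyw
  rw [hz] at h
  have hp : Orb L a (x + w) := by
    have h' := Conf.orb_of_in h hx
    rwa [uFun, hxy, hxw, one_smul, zero_smul, add_zero, zero_mul, zero_smul, add_zero] at h'
  have hne : ∀ k : F, x ≠ k • (x + w) := by
    intro k hk
    have h1 := congrArg (fun z => B z y) hk
    simp only [map_smul, LinearMap.smul_apply, map_add, LinearMap.add_apply, hxy,
      K.symp.symm w y, hyw, add_zero, smul_eq_mul, mul_one] at h1
    rw [← h1, one_smul, left_eq_add] at hk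
    exact hw hk
  have h' := K.ph_orth hq hp hx (by rw [K.symp.symm, map_add, K.symp.self, hxw, zero_add]) hne s
  rwa [smul_add, add_comm, K.ph_mod hx (by rw [map_smul, hxw, smul_zero])] at h'

omit [FiniteDimensional F V] in
/-- Points of the orbit with pairing one against `a` lie on one orbit of the family at `a`. -/
def Level (_K : Conf₀ B L a) (b : V) : Prop :=
  ∀ x, Orb L a x → B a x = 1 → ph B L a (x + b) = B b x

omit [FiniteDimensional F V] in
theorem level_eq {b : V} (hL : K.Level b) (hb : Orb L a b) (hab : B a b = 1) {w : V}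
    (haw : B a w = 0) (hbw : B b w = 0) (hw : ph B L b w ≠ 0) :
    ph B L a ((ph B L b w)⁻¹ • w) = (ph B L b w)⁻¹ := by
  set α := ph B L b w
  have hp := Conf.orb_smul (inv_ne_zero hw) (Conf.orb_of_in (K.ph_spec hb hbw) K.toConf.orb_self)
  have e : α⁻¹ • uFun B b w α a = b + α⁻¹ • w + α⁻¹ • a := by
    simp only [uFun, hab, haw, one_smul, zero_smul, add_zero, mul_one, smul_add, smul_smul,
      inv_mul_cancel₀ hw]
    abel
  rw [e] at hp
  have h := hL _ hp (by
    simp only [map_add, map_smul, hab, haw, K.symp.self, smul_zero, add_zero])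
  have hbb : b + α⁻¹ • w + α⁻¹ • a + b = α⁻¹ • w + α⁻¹ • a := by
    rw [add_comm _ b, ← add_assoc, ← add_assoc, ← two_smul F b, CharTwo.two_eq_zero, zero_smul,
      zero_add]
  rw [hbb, K.ph_mod K.toConf.orb_self (by rw [map_smul, haw, smul_zero])] at h
  rw [h]
  simp [map_add, map_smul, K.symp.self, hbw, K.symp.symm b a, hab]

omit [FiniteDimensional F V] in
/-- `Good b`: homogeneous, and the same function seen from `b`. -/
def Good (_K : Conf₀ B L a) (b : V) : Prop :=
  ∀ w, B a w = 0 → B b w = 0 →
    ph B L b w = ph B L a w ∧ ∀ s : F, ph B L a (s • w) = s * s * ph B L a w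

/-- The case of a singular line through `a`. -/
theorem good_of_zero (hq : ∃ k : F, k ≠ 0 ∧ k ≠ 1) {b : V} (hb : Orb L a b) (hab : B a b = 1)
    {w₀ : V} (h0 : w₀ ≠ 0) (haw₀ : B a w₀ = 0) (hbw₀ : B b w₀ = 0) (hz₀ : ph B L a w₀ = 0) :
    K.Good b := by
  have hba : B b a = 1 := by rw [K.symp.symm, hab]
  have ha := K.toConf.orb_self
  have zl : ∀ w, B a w = 0 → B b w = 0 → ph B L a w = 0 →
      ph B L b w = 0 ∧ ∀ s : F, ph B L a (s • w) = 0 := by
    intro w h1 h2 h3
    have h4 : ph B L b w = 0 := by
      simpa using K.zero_line hq hb ha hba h2 h1 h3 1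
    exact ⟨h4, fun s => K.zero_line hq ha hb hab h1 h2 h4 s⟩
  obtain ⟨y₀, hy₀⟩ := K.symp.exists_pair h0
  set y := y₀ + B a y₀ • b + B b y₀ • a with hy
  have hay : B a y = 0 := by
    simp [hy, map_add, map_smul, hab, K.symp.self, CharTwo.add_self_eq_zero]
  have hby : B b y = 0 := by
    simp [hy, map_add, map_smul, hba, K.symp.self, CharTwo.add_self_eq_zero]
  have hwy : B w₀ y = 1 := by
    simp [hy, map_add, map_smul, hy₀, K.symp.symm w₀ a, K.symp.symm w₀ b, haw₀, hbw₀]
  -- an additive function on `W` killing all zeros is zero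
  have kill : ∀ D : V → F, (∀ u v, B a u = 0 → B b u = 0 → B a v = 0 → B b v = 0 →
      D (u + v) = D u + D v) → (∀ w, B a w = 0 → B b w = 0 → ph B L a w = 0 → D w = 0) →
      ∀ v, B a v = 0 → B b v = 0 → D v = 0 := by
    intro D hadd hzero
    have main : ∀ v, B a v = 0 → B b v = 0 → B w₀ v ≠ 0 → D v = 0 := by
      intro v hav hbv hv
      set k := ph B L a v / B w₀ v with hk
      have hak : B a (k • w₀) = 0 := by rw [map_smul, haw₀, smul_zero]
      have hbk : B b (k • w₀) = 0 := by rw [map_smul, hbw₀, smul_zero]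
      have hkz : ph B L a (k • w₀) = 0 := (zl w₀ haw₀ hbw₀ hz₀).2 k
      have hsum : ph B L a (v + k • w₀) = 0 := by
        rw [K.ph_add ha hav hak, hkz, add_zero, map_smul, K.symp.symm v w₀, smul_eq_mul, hk,
          div_mul_cancel₀ _ hv, CharTwo.add_self_eq_zero]
      have h := hzero _ (by rw [map_add, hav, hak, add_zero]) (by rw [map_add, hbv, hbk, add_zero])
        hsum
      rwa [hadd v _ hav hbv hak hbk, hzero _ hak hbk hkz, add_zero] at h
    intro v hav hbv
    by_cases hv : B w₀ v = 0
    · have hay' : B a (v + y) = 0 := by rw [map_add, hav, hay, add_zero]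
      have hby' : B b (v + y) = 0 := by rw [map_add, hbv, hby, add_zero]
      have h1 := main (v + y) hay' hby' (by rw [map_add, hv, hwy, zero_add]; exact one_ne_zero)
      rwa [hadd v y hav hbv hay hby, main y hay hby (by rw [hwy]; exact one_ne_zero), add_zero] at h1
    · exact main v hav hbv hv
  intro w haw hbw
  refine ⟨CharTwo.add_eq_zero.1 (kill (fun v => ph B L b v + ph B L a v)
    (fun u v hau hbu hav hbv => ?_) (fun v hav hbv hv => ?_) w haw hbw), fun s => ?_⟩
  · show ph B L b (u + v) + ph B L a (u + v) = _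
    rw [K.ph_add hb hbu hbv, K.ph_add ha hau hav]
    linear_combination (B u v) * (CharTwo.two_eq_zero : (2 : F) = 0)
  · show ph B L b v + ph B L a v = 0
    rw [(zl v hav hbv hv).1, hv, add_zero]
  · refine CharTwo.add_eq_zero.1 (kill (fun v => ph B L a (s • v) + s * s * ph B L a v)
      (fun u v hau hbu hav hbv => ?_) (fun v hav hbv hv => ?_) w haw hbw)
    · show ph B L a (s • (u + v)) + s * s * ph B L a (u + v) = _
      rw [smul_add, K.ph_add ha (by rw [map_smul, hau, smul_zero])
        (by rw [map_smul, hav, smul_zero]), K.ph_add ha hau hav]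
      simp only [map_smul, LinearMap.smul_apply, smul_eq_mul]
      linear_combination (s * s * B u v) * (CharTwo.two_eq_zero : (2 : F) = 0)
    · show ph B L a (s • v) + s * s * ph B L a v = 0
      rw [(zl v hav hbv hv).2 s, hv, mul_zero, add_zero]

omit [FiniteDimensional F V] in
/-- The case without singular lines. -/
theorem good_of_level [Finite F] {b : V} (hb : Orb L a b) (hab : B a b = 1) (hL : K.Level b)
    (hinj : ∀ w, B a w = 0 → B b w = 0 → w ≠ 0 → ph B L a w ≠ 0 ∧ ph B L b w ≠ 0) :
    K.Good b := by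
  intro w haw hbw
  rcases eq_or_ne w 0 with rfl | hw
  · exact ⟨by rw [K.ph_zero hb, K.ph_zero K.toConf.orb_self],
      fun s => by rw [smul_zero, K.ph_zero K.toConf.orb_self, mul_zero]⟩
  have hak : ∀ k : F, B a (k • w) = 0 := fun k => by rw [map_smul, haw, smul_zero]
  have hbk : ∀ k : F, B b (k • w) = 0 := fun k => by rw [map_smul, hbw, smul_zero]
  have hadd : ∀ x, Orb L a x → B x w = 0 → ∀ k l : F,
      ph B L x ((k + l) • w) = ph B L x (k • w) + ph B L x (l • w) := by
    intro x hx hxw k l
    rw [add_smul, K.ph_add hx (by rw [map_smul, hxw, smul_zero]) (by rw [map_smul, hxw, smul_zero])]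
    simp [K.symp.self]
  have hi : ∀ x, Orb L a x → B x w = 0 → (∀ r : F, r ≠ 0 → ph B L x (r • w) ≠ 0) →
      Function.Bijective fun r : F => ph B L x (r • w) := by
    intro x hx hxw h0
    refine bijective_of_injective fun r r' hr => ?_
    by_contra hne
    refine h0 (r + r') (fun h => hne (CharTwo.add_eq_zero.1 h)) ?_
    rw [hadd x hx hxw, show ph B L x (r • w) = ph B L x (r' • w) from hr, CharTwo.add_self_eq_zero]
  set eA := Equiv.ofBijective _ (hi a K.toConf.orb_self haw fun r hr =>
    (hinj _ (hak r) (hbk r) (smul_ne_zero hr hw)).1) with heA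
  set eB := Equiv.ofBijective _ (hi b hb hbw fun r hr =>
    (hinj _ (hak r) (hbk r) (smul_ne_zero hr hw)).2) with heB
  have rel : ∀ α : F, α ≠ 0 → eB.symm α = α * eA.symm α⁻¹ := by
    intro α hα
    have h1 : ph B L b (eB.symm α • w) = α := eB.apply_symm_apply α
    have h := K.level_eq hL hb hab (hak (eB.symm α)) (hbk _) (by rw [h1]; exact hα)
    rw [h1, smul_smul] at h
    rw [← h, show eA.symm (ph B L a ((α⁻¹ * eB.symm α) • w)) = α⁻¹ * eB.symm α from
      eA.symm_apply_apply _, ← mul_assoc, mul_inv_cancel₀ hα, one_mul]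
  have hsymm : ∀ (e : F ≃ F), (∀ k l, e (k + l) = e k + e l) →
      ∀ x y, e.symm (x + y) = e.symm x + e.symm y := fun e he x y => e.injective (by simp [he])
  have hA := hsymm eA (hadd a K.toConf.orb_self haw)
  have hB := hsymm eB (hadd b hb hbw)
  set c := eB.symm 1 * eB.symm 1 with hc
  have hg : ∀ α, eB.symm α * eB.symm α = c * α := by
    refine hua (f := fun x => eA.symm x * eA.symm x) (g := fun x => eB.symm x * eB.symm x) ?_ ?_ ?_
    · intro x y
      show eA.symm (x + y) * eA.symm (x + y) = _
      rw [hA]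
      linear_combination (eA.symm x * eA.symm y) * (CharTwo.two_eq_zero : (2 : F) = 0)
    · intro x y
      show eB.symm (x + y) * eB.symm (x + y) = _
      rw [hB]
      linear_combination (eB.symm x * eB.symm y) * (CharTwo.two_eq_zero : (2 : F) = 0)
    · intro x hx
      show eB.symm x * eB.symm x = _
      rw [rel x hx]
      ring
  have e1 : ph B L b w * c = 1 := by
    have h := hg (ph B L b ((1 : F) • w))
    rw [show eB.symm (ph B L b ((1 : F) • w)) = 1 from eB.symm_apply_apply 1, one_smul, mul_one,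
      mul_comm] at h
    exact h.symm
  have e2 : ∀ r : F, ph B L a (r • w) * c = r * r := by
    intro r
    rcases eq_or_ne r 0 with rfl | hr
    · rw [zero_smul, K.ph_zero K.toConf.orb_self, zero_mul, zero_mul]
    have hne : ph B L a (r • w) ≠ 0 := (hinj _ (hak r) (hbk r) (smul_ne_zero hr hw)).1
    have h := hg (ph B L a (r • w))⁻¹
    rw [rel _ (inv_ne_zero hne), inv_inv,
      show eA.symm (ph B L a (r • w)) = r from eA.symm_apply_apply r] at h
    field_simp at h
    linear_combination -h
  have hc0 : c ≠ 0 := right_ne_zero_of_mul_eq_one e1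
  have e3 := e2 1
  rw [one_smul, mul_one] at e3
  refine ⟨mul_right_cancel₀ hc0 (e1.trans e3.symm), fun s => mul_right_cancel₀ hc0 ?_⟩
  rw [e2, mul_assoc, e3, mul_one]

/-- Over more than two elements. -/
theorem good [Finite F] (hdim : 4 ≤ finrank F V) (hq : ∃ k : F, k ≠ 0 ∧ k ≠ 1) {b : V}
    (hb : Orb L a b) (hab : B a b = 1) : K.Good b := by
  by_cases hz : ∃ w₀, w₀ ≠ 0 ∧ B a w₀ = 0 ∧ B b w₀ = 0 ∧ ph B L a w₀ = 0
  · obtain ⟨w₀, h0, h1, h2, h3⟩ := hz
    exact K.good_of_zero hq hb hab h0 h1 h2 h3
  push Not at hz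
  have ha := K.toConf.orb_self
  have hba : B b a = 1 := by rw [K.symp.symm, hab]
  -- orthogonal points of the orbit are proportional
  have hno : ∀ x y, Orb L a x → Orb L a y → B x y = 0 → ∃ k : F, y = k • x := by
    intro x y hx hy hxy
    obtain ⟨k, g, hg, hk, rfl⟩ := hx
    obtain ⟨z, rfl⟩ := g.surjective y
    have hz' : Orb L a z := by simpa using Conf.orb_map (inv_mem hg) hy
    rw [map_smul, LinearMap.smul_apply, K.pres g hg, smul_eq_mul, mul_eq_zero] at hxy
    have haz := hxy.resolve_left hk
    suffices h : ∃ l : F, z = l • a by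
      obtain ⟨l, rfl⟩ := h
      exact ⟨l / k, by rw [map_smul, smul_smul, div_mul_cancel₀ l hk]⟩
    by_contra hl
    push Not at hl
    have hz0 : ph B L a ((1 : F) • z) = 0 := by
      refine K.ph_orth hq hz' ha (by rw [K.symp.symm, haz]) (fun l hl' => ?_) 1
      rcases eq_or_ne l 0 with rfl | hl0
      · exact K.ne (by rw [hl', zero_smul])
      · exact hl l⁻¹ (by rw [hl', smul_smul, inv_mul_cancel₀ hl0, one_smul])
    rw [one_smul] at hz0
    refine hz (z + B b z • a) (fun h0 => hl (B b z) ?_) (by simp [haz, K.symp.self]) ?_ ?_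
    · exact (eq_neg_of_add_eq_zero_left h0).trans (by rw [← neg_smul, CharTwo.neg_eq])
    · simp [hba, CharTwo.add_self_eq_zero]
    · rw [K.ph_mod ha haz, hz0]
  have hinj : ∀ x y, Orb L a x → Orb L a y → B x y = 1 → ∀ v, B x v = 0 → B y v = 0 →
      ph B L x v = 0 → v = 0 := by
    intro x y hx hy hxy v hxv hyv hv
    have h := K.ph_spec hx hxv
    rw [hv] at h
    have hp := Conf.orb_of_in h hy
    rw [uFun, K.symp.symm y x, hxy, hyv, one_smul, zero_smul, add_zero, zero_mul, zero_smul,
      add_zero] at hp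
    obtain ⟨k, hk⟩ := hno y (y + v) hy hp (by rw [map_add, K.symp.self, hyv, add_zero])
    have h1 := congrArg (B x) hk
    rw [map_add, hxy, hxv, add_zero, map_smul, hxy, smul_eq_mul, mul_one] at h1
    rw [← h1, one_smul, add_eq_left] at hk
    exact hk
  refine K.good_of_level hb hab ?_ fun w h1 h2 h3 =>
    ⟨fun h => h3 (hinj a b ha hb hab w h1 h2 h), fun h => h3 (hinj b a hb ha hba w h2 h1 h)⟩
  intro x hx hax
  by_contra hne
  set u := x + b with hu
  have hau : B a u = 0 := by rw [hu, map_add, hax, hab, CharTwo.add_self_eq_zero]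
  set t := ph B L a u + B b x with ht
  have ht0 : t ≠ 0 := fun h => hne (CharTwo.add_eq_zero.1 h)
  set z := uFun B a u (ph B L a u) b with hz'
  have hzo : Orb L a z := Conf.orb_of_in (K.ph_spec ha hau) hb
  have hxz : x = z + t • a := by
    have h2 : (2 : F) = 0 := CharTwo.two_eq_zero
    simp only [hz', uFun, hu, ht, hba, map_add, K.symp.self]
    match_scalars <;>
      first
        | linear_combination (-1 : F) * h2
        | linear_combination (-(ph B L a (x + b) + B b x)) * h2
        | ring
  have haz : B a z = 1 := by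
    have h := hax
    rwa [hxz, map_add, map_smul, K.symp.self, smul_zero, add_zero] at h
  obtain ⟨v₁, hv1, hav1, hzv1⟩ := exists_orth_pair hdim B a z
  have hbij : Function.Injective fun r : F => ph B L a (r • v₁) := by
    intro r r' hr
    by_contra hne'
    refine smul_ne_zero (fun h => hne' (CharTwo.add_eq_zero.1 h)) hv1 (hinj a z ha hzo haz
      ((r + r') • v₁) (by rw [map_smul, hav1, smul_zero]) (by rw [map_smul, hzv1, smul_zero]) ?_)
    rw [add_smul, K.ph_add ha (by rw [map_smul, hav1, smul_zero]) (by rw [map_smul, hav1, smul_zero]),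
      show ph B L a (r • v₁) = ph B L a (r' • v₁) from hr, CharTwo.add_self_eq_zero, zero_add]
    simp [K.symp.self]
  obtain ⟨r, hr⟩ := (bijective_of_injective hbij).2 t
  have hr' : ph B L a (r • v₁) = t := hr
  have hav : B a (r • v₁) = 0 := by rw [map_smul, hav1, smul_zero]
  have hzv : B z (r • v₁) = 0 := by rw [map_smul, hzv1, smul_zero]
  have hp := Conf.orb_of_in (K.ph_spec ha hav) hzo
  rw [uFun, K.symp.symm z a, haz, hzv, show ph B L a (r • v₁) = t from hr, one_smul, zero_smul,
    add_zero, mul_one] at hp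
  obtain ⟨k, hk⟩ := hno x _ hx hp (by
    rw [hxz]
    simp only [map_add, LinearMap.add_apply, map_smul, LinearMap.smul_apply, K.symp.self, hzv,
      haz, K.symp.symm z a, smul_eq_mul, hav1, hzv1, mul_zero, mul_one, zero_add, add_zero,
      CharTwo.add_self_eq_zero])
  have h1 := congrArg (B a) hk
  rw [map_add, map_add, haz, hav, map_smul, K.symp.self, smul_zero, add_zero, add_zero, map_smul,
    hax, smul_eq_mul, mul_one] at h1
  rw [← h1, one_smul, hxz, add_right_comm, add_eq_left] at hk
  rw [hk, K.ph_zero ha] at hr'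
  exact ht0 hr'.symm

omit [FiniteDimensional F V] in
/-- Over two elements, given one level on both sides. -/
theorem good_two (hq : ∀ k : F, k = 0 ∨ k = 1) {b : V} (hb : Orb L a b) (hab : B a b = 1)
    (hL : K.Level b)
    (hL' : ∀ w, B a w = 0 → B b w = 0 → ph B L a w = 1 → ph B L b w = 1) : K.Good b := by
  intro w haw hbw
  refine ⟨?_, fun s => ?_⟩
  · rcases hq (ph B L b w) with h | h
    · rcases hq (ph B L a w) with h' | h'
      · rw [h, h']
      · rw [hL' w haw hbw h'] at h
        exact absurd h one_ne_zero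
    · have h1 := K.level_eq hL hb hab haw hbw (by rw [h]; exact one_ne_zero)
      rw [h, inv_one, one_smul] at h1
      rw [h, h1]
  · rcases hq s with rfl | rfl
    · rw [zero_smul, K.ph_zero K.toConf.orb_self, mul_zero, zero_mul]
    · rw [one_smul, one_mul, one_mul]

end Conf₀

end CfsgLib.SpOver
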