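import Cfsg.Agent.Lib.SpOver.Transvection

/-!
A normal 2-subgroup of the stabiliser of a vector `a` in a symplectic group in characteristic two
consists of elements `uFun B a v c`.
-/

set_option autoImplicit false

namespace CfsgLib.SpOver

open Module

variable {F V : Type*} [Field F] [CharP F 2] [AddCommGroup V] [Module F V]
  {B : LinearMap.BilinForm F V}

theorem add_self_vec (F : Type*) {V : Type*} [Field F] [CharP F 2] [AddCommGroup V] [Module F V]
    (x : V) : x + x = 0 := by
  rw [← two_smul F x, CharTwo.two_eq_zero, zero_smul]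

/-- The transvection with centre `v`. -/
def tvEquiv (hB : IsSymp B) (v : V) : V ≃ₗ[F] V :=
  LinearEquiv.ofInvolutive
    ({ toFun := fun x => x + B x v • v
       map_add' := fun x y => by
        simp only [map_add, LinearMap.add_apply, add_smul]; abel
       map_smul' := fun k x => by
        simp only [map_smul, LinearMap.smul_apply, RingHom.id_apply, smul_add, smul_smul,
          smul_eq_mul] } : V →ₗ[F] V)
    fun x => by
      show (x + B x v • v) + B (x + B x v • v) v • v = x
      rw [LinearMap.map_add₂, map_smul, LinearMap.smul_apply, hB.self, smul_zero, add_zero,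
        add_assoc, add_self_vec F, add_zero]

theorem tvEquiv_apply (hB : IsSymp B) (v x : V) : tvEquiv hB v x = x + B x v • v := rfl

theorem tvEquiv_pres (hB : IsSymp B) (v x y : V) :
    B (tvEquiv hB v x) (tvEquiv hB v y) = B x y := by
  simp only [tvEquiv_apply, map_add, LinearMap.add_apply, map_smul, LinearMap.smul_apply,
    smul_eq_mul, hB.self, hB.symm v y]
  linear_combination (B x v * B y v) * (CharTwo.two_eq_zero : (2 : F) = 0)

/-- The commutator of an isometry with a transvection. -/
theorem conj_tvEquiv (hB : IsSymp B) {g : V ≃ₗ[F] V} (hg : ∀ x y, B (g x) (g y) = B x y) (v : V) :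
    g * tvEquiv hB v * g⁻¹ * (tvEquiv hB v)⁻¹ = tvEquiv hB (g v) * tvEquiv hB v := by
  have h1 : (tvEquiv hB v)⁻¹ = tvEquiv hB v := LinearEquiv.ext fun x => by
    show (tvEquiv hB v).symm x = _
    rw [LinearEquiv.symm_apply_eq]
    exact ((tvEquiv hB v).symm_apply_apply x).symm.trans rfl |>.trans (by
      show (tvEquiv hB v).symm (tvEquiv hB v x) = tvEquiv hB v (tvEquiv hB v x)
      rw [LinearEquiv.symm_apply_apply]
      show x = (x + B x v • v) + B (x + B x v • v) v • v
      rw [LinearMap.map_add₂, map_smul, LinearMap.smul_apply, hB.self, smul_zero, add_zero,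
        add_assoc, add_self_vec F, add_zero])
  have h2 : g * tvEquiv hB v * g⁻¹ = tvEquiv hB (g v) := LinearEquiv.ext fun x => by
    obtain ⟨y, rfl⟩ := g.surjective x
    simp [tvEquiv_apply, hg]
  rw [h1, h2]

/-- Two transvections with non-orthogonal centres generate an element not of two-power order. -/
theorem not_unipotent (hB : IsSymp B) {u v : V} (h : B u v ≠ 0) (k : ℕ) :
    (tvEquiv hB u * tvEquiv hB v) ^ 2 ^ k ≠ 1 := by
  set P := tvEquiv hB u * tvEquiv hB v
  set s := B u v with hs
  set D : Module.End F V := (P : V →ₗ[F] V) + 1 with hD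
  have hDD : ∀ E : Module.End F V, E + E = 0 := fun E => LinearMap.ext fun x => add_self_vec F _
  have hpow : ∀ j, ((P ^ 2 ^ j : V ≃ₗ[F] V) : Module.End F V) = 1 + D ^ 2 ^ j := by
    intro j
    induction j with
    | zero =>
      rw [pow_zero, pow_one, pow_one, hD, add_comm, add_assoc, hDD, add_zero]
    | succ j ih =>
      rw [pow_succ, pow_mul, pow_mul]
      have e : ((P ^ 2 ^ j) ^ 2 : V ≃ₗ[F] V) = P ^ 2 ^ j * P ^ 2 ^ j := sq _
      rw [e, LinearEquiv.coe_toLinearMap_mul, ih, mul_add, add_mul, add_mul, one_mul, one_mul,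
        mul_one, sq, add_assoc, ← add_assoc (D ^ 2 ^ j) (D ^ 2 ^ j), hDD, zero_add]
  have hDx : ∀ x, D x = B x v • v + (B x u + B x v * B v u) • u := fun x => by
    show P x + x = _
    simp only [P, LinearEquiv.mul_apply, tvEquiv_apply, LinearMap.map_add₂, map_smul,
      LinearMap.smul_apply, smul_eq_mul]
    rw [add_right_comm, add_right_comm x, add_self_vec F, zero_add]
  have key : ∀ m, ∃ α β : F, (α ≠ 0 ∨ β ≠ 0) ∧ (D ^ m) v = α • v + β • u := by
    intro m
    induction m with
    | zero => exact ⟨1, 0, Or.inl one_ne_zero, by simp⟩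
    | succ m ih =>
      obtain ⟨α, β, hne, he⟩ := ih
      refine ⟨β * s, α * s + β * (s * s), ?_, ?_⟩
      · rcases eq_or_ne β 0 with hβ | hβ
        · refine Or.inr ?_
          rw [hβ, zero_mul, add_zero]
          exact mul_ne_zero (hne.resolve_right (by simp [hβ])) h
        · exact Or.inl (mul_ne_zero hβ h)
      · rw [pow_succ', Module.End.mul_apply, he, map_add, map_smul, map_smul, hDx, hDx]
        simp only [hB.self, hB.symm v u, ← hs, zero_smul, smul_add, smul_smul, smul_zero,
          zero_add, zero_mul, add_zero]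
        match_scalars <;> ring
  intro hP
  obtain ⟨α, β, hne, he⟩ := key (2 ^ k)
  have h1 := congrArg (fun E : V ≃ₗ[F] V => (E : Module.End F V) v) hP
  have h2 : ((P ^ 2 ^ k : V ≃ₗ[F] V) : Module.End F V) v = v + (D ^ 2 ^ k) v := by
    rw [hpow]; rfl
  rw [h2, he] at h1
  change v + (α • v + β • u) = v at h1
  rw [add_eq_left] at h1
  have h3 := congrArg (fun z => B z v) h1
  have h4 := congrArg (fun z => B z u) h1
  simp only [map_add, map_smul, LinearMap.add_apply, LinearMap.smul_apply, hB.self, hB.symm v u,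
    map_zero, LinearMap.zero_apply, smul_eq_mul, mul_zero, zero_add, add_zero, ← hs] at h3 h4
  rcases hne with h5 | h5
  · exact mul_ne_zero h5 h h4
  · exact mul_ne_zero h5 h h3

/-- The radical of the point stabiliser. -/
theorem eq_uFun [FiniteDimensional F V] (hB : IsSymp B) {a b : V} (hab : B a b = 1)
    (N : Set (V ≃ₗ[F] V)) (hfix : ∀ g ∈ N, g a = a) (hpres : ∀ g ∈ N, ∀ x y, B (g x) (g y) = B x y)
    (h2 : ∀ g ∈ N, ∃ k, g ^ 2 ^ k = 1)
    (hcomm : ∀ g ∈ N, ∀ v, B a v = 0 → g * tvEquiv hB v * g⁻¹ * (tvEquiv hB v)⁻¹ ∈ N)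
    {g : V ≃ₗ[F] V} (hg : g ∈ N) : ∃ v c, B a v = 0 ∧ ∀ x, g x = uFun B a v c x := by
  have hperp : ∀ g ∈ N, ∀ v, B a v = 0 → B (g v) v = 0 := by
    intro g hg v hv
    by_contra hne
    obtain ⟨k, hk⟩ := h2 _ (hcomm g hg v hv)
    rw [conj_tvEquiv hB (hpres g hg)] at hk
    exact not_unipotent hB hne k hk
  have hmod : ∀ v, B a v = 0 → ∃ k : F, g v = v + k • a := by
    intro v hv
    suffices h : ∃ k : F, g v + v = k • a by
      obtain ⟨k, hk⟩ := h
      exact ⟨k, by rw [← hk, add_left_comm, add_self_vec F, add_zero]⟩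
    by_contra hcon
    push Not at hcon
    obtain ⟨w, haw, hw⟩ := hB.exists_sep hcon 1
    have hP := hcomm g hg v hv
    have h := hperp _ hP w haw
    rw [conj_tvEquiv hB (hpres g hg), LinearEquiv.mul_apply, tvEquiv_apply, tvEquiv_apply] at h
    simp only [map_add, LinearMap.add_apply, map_smul, LinearMap.smul_apply, smul_eq_mul, hB.self,
      hB.symm v (g v), hperp g hg v hv, mul_zero, add_zero, zero_add] at h hw
    rw [hB.symm w v, hB.symm w (g v)] at h
    have h' : (B (g v) w + B v w) * (B (g v) w + B v w) = 0 := by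
      linear_combination h + (B (g v) w * B v w) * (CharTwo.two_eq_zero : (2 : F) = 0)
    rw [hw, one_mul] at h'
    exact one_ne_zero h'
  have hba : B b a = 1 := by rw [hB.symm, hab]
  set d := g b + b with hd
  have had : B a d = 0 := by
    have h := hpres g hg a b
    rw [hfix g hg, hab] at h
    rw [hd, map_add, h, hab, CharTwo.add_self_eq_zero]
  have hgb : g b = b + d := by rw [hd, add_left_comm, add_self_vec F, add_zero]
  refine ⟨d, B b d, had, fun x => ?_⟩
  set y := x + B x a • b with hy
  have hay : B a y = 0 := by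
    rw [hy, map_add, map_smul, hab, smul_eq_mul, mul_one, hB.symm x a, CharTwo.add_self_eq_zero]
  obtain ⟨l, hl⟩ := hmod y hay
  have e : l = B y d := by
    have h := hpres g hg y b
    rw [hl, hgb] at h
    simp only [map_add, map_smul, LinearMap.add_apply, LinearMap.smul_apply, smul_eq_mul, hab,
      had, mul_one, mul_zero, add_zero] at h
    linear_combination h + (-(B y d)) * (CharTwo.two_eq_zero : (2 : F) = 0)
  have hx : x = y + B x a • b := by rw [hy, add_assoc, add_self_vec F, add_zero]
  conv_lhs => rw [hx]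
  rw [map_add, map_smul, hl, hgb, e, uFun, hy]
  simp only [LinearMap.map_add₂, map_smul, LinearMap.smul_apply, smul_eq_mul]
  match_scalars <;>
    first
      | linear_combination (B x a) * (CharTwo.two_eq_zero : (2 : F) = 0)
      | ring

end CfsgLib.SpOver
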