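import Cfsg.Agent.Lib.SpOver.Form
import Cfsg.Agent.Lib.SymSix.IndexSix

/-!
Two elements, every non-zero vector in the orbit, no transvection: dimension four, and the order
of `L` is divisible by 120.
-/

set_option autoImplicit false

namespace CfsgLib.SpOver

open Module

variable {F V : Type*} [Field F] [CharP F 2] [AddCommGroup V] [Module F V] [FiniteDimensional F V]
  {B : LinearMap.BilinForm F V} {L : Subgroup (V ≃ₗ[F] V)} {a : V}

namespace Conf₀

variable (K : Conf₀ B L a) (hq : ∀ k : F, k = 0 ∨ k = 1) (hall : ∀ z, z ≠ 0 → Orb L a z)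
include K hq hall

omit [FiniteDimensional F V] in
theorem ph_comm {x y : V} (hx : x ≠ 0) (hy : y ≠ 0) (hxy : B x y = 0) :
    ph B L x y = ph B L y x := by
  have h1 : ph B L x y = 0 → ph B L y x = 0 := fun h => by
    simpa using K.ph_symm (hall x hx) (hall y hy) hxy (s := 1) (by rwa [one_smul])
  have h2 : ph B L y x = 0 → ph B L x y = 0 := fun h => by
    simpa using K.ph_symm (hall y hy) (hall x hx) (by rw [K.symp.symm, hxy]) (s := 1)
      (by rwa [one_smul])
  rcases hq (ph B L x y) with h | h
  · rw [h, h1 h]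
  · rcases hq (ph B L y x) with h' | h'
    · rw [h', h2 h']
    · rw [h, h']

/-- In dimension six or more this configuration is contradictory. -/
theorem finrank_lt_six : finrank F V < 6 := by
  by_contra hd
  push Not at hd
  obtain ⟨b, -, hab⟩ := K.toConf.exists_partner K.ne
  obtain ⟨e, he, hae, hbe⟩ := exists_orth_pair (by omega) B a b
  obtain ⟨e', he', hne, hae', hbe', hee'⟩ : ∃ e', e' ≠ 0 ∧ e' ≠ e ∧ B a e' = 0 ∧ B b e' = 0 ∧
      B e e' = 0 := by
    set f : V →ₗ[F] F × F × F := (B a).prod ((B b).prod (B e)) with hf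
    have h1 := LinearMap.finrank_range_add_finrank_ker f
    have h2 : finrank F (LinearMap.range f) ≤ 3 := by
      refine (Submodule.finrank_le _).trans ?_
      rw [finrank_prod, finrank_prod, finrank_self]
    have h3 : ¬ (LinearMap.ker f ≤ F ∙ e) := fun hle => by
      have := (Submodule.finrank_mono hle).trans (finrank_span_singleton he).le
      omega
    obtain ⟨x, hx, hxe⟩ := SetLike.not_le_iff_exists.1 h3
    simp [hf, Prod.ext_iff] at hx
    refine ⟨x, ?_, ?_, hx.1, hx.2.1, hx.2.2⟩
    · rintro rfl; exact hxe (Submodule.zero_mem _)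
    · rintro rfl; exact hxe (Submodule.mem_span_singleton_self x)
  have ha := K.toConf.ne
  have hb : b ≠ 0 := by rintro rfl; simp at hab
  have hs : ∀ {u v : V}, u ≠ v → u + v ≠ 0 := fun {u v} h h0 => h (by
    rw [eq_neg_of_add_eq_zero_left h0, ← one_smul F v, ← neg_smul, CharTwo.neg_eq])
  have hab' : a + b ≠ 0 := hs fun h => by rw [h, K.symp.self] at hab; exact zero_ne_one hab
  have hee : e + e' ≠ 0 := hs (Ne.symm hne)
  have row : ∀ x, x ≠ 0 → B a x = 0 → B b x = 0 →
      ph B L x (a + b) = ph B L x a + ph B L x b + 1 := by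
    intro x hx h1 h2
    rw [K.ph_add (hall x hx) (by rw [K.symp.symm, h1]) (by rw [K.symp.symm, h2]), hab]
  have col : ∀ y, y ≠ 0 → B y e = 0 → B y e' = 0 →
      ph B L y (e + e') = ph B L y e + ph B L y e' := by
    intro y hy h1 h2
    rw [K.ph_add (hall y hy) h1 h2, hee', add_zero]
  have hee1 : B a (e + e') = 0 := by rw [map_add, hae, hae', add_zero]
  have hee2 : B b (e + e') = 0 := by rw [map_add, hbe, hbe', add_zero]
  have h3 : ∀ x, B a x = 0 → B b x = 0 → B (a + b) x = 0 := fun x h1 h2 => by
    rw [map_add, LinearMap.add_apply, h1, h2, add_zero]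
  have r1 := row e he hae hbe
  have r2 := row e' he' hae' hbe'
  have r3 := row (e + e') hee hee1 hee2
  have c1 := col a ha hae hae'
  have c2 := col b hb hbe hbe'
  have c3 := col (a + b) hab' (h3 e hae hbe) (h3 e' hae' hbe')
  have q := fun x y hx hy hxy => K.ph_comm hq hall (x := x) (y := y) hx hy hxy
  rw [q a e ha he hae, q a e' ha he' hae', q a (e + e') ha hee hee1] at c1
  rw [q b e hb he hbe, q b e' hb he' hbe', q b (e + e') hb hee hee2] at c2
  rw [q (a + b) e hab' he (h3 e hae hbe), q (a + b) e' hab' he' (h3 e' hae' hbe'),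
    q (a + b) (e + e') hab' hee (h3 _ hee1 hee2)] at c3
  rw [r3, r1, r2, c1, c2] at c3
  have h2 : (2 : F) = 0 := CharTwo.two_eq_zero
  exact one_ne_zero (α := F) (by linear_combination c3 + h2)

/-- The stabiliser of `a` in `L` is transitive on the vectors of pairing one with `a`. -/
theorem exists_fix_map (hdim : finrank F V = 4) {b z : V} (hab : B a b = 1) (haz : B a z = 1) :
    ∃ h ∈ L, h a = a ∧ h b = z := by
  have ha := K.toConf.orb_self
  have hba : B b a = 1 := by rw [K.symp.symm, hab]
  have h2 : (2 : F) = 0 := CharTwo.two_eq_zero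
  obtain ⟨v, hv1, hav, hbv, hphv⟩ : ∃ v, v ≠ 0 ∧ B a v = 0 ∧ B b v = 0 ∧ ph B L a v = 1 := by
    obtain ⟨w, hw, haw, hbw⟩ := exists_orth_pair (by omega) B a b
    obtain ⟨y₀, hy₀⟩ := K.symp.exists_pair hw
    set y := y₀ + B a y₀ • b + B b y₀ • a with hy
    have hay : B a y = 0 := by
      simp [hy, map_add, map_smul, hab, K.symp.self, CharTwo.add_self_eq_zero]
    have hby : B b y = 0 := by
      simp [hy, map_add, map_smul, hba, K.symp.self, CharTwo.add_self_eq_zero]
    have hwy : B w y = 1 := by
      simp [hy, map_add, map_smul, hy₀, K.symp.symm w a, K.symp.symm w b, haw, hbw]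
    have hne : ∀ v, ph B L a v = 1 → v ≠ 0 := fun v h h0 => by
      rw [h0, K.ph_zero ha] at h; exact zero_ne_one h
    rcases hq (ph B L a w) with h | h
    · rcases hq (ph B L a y) with h' | h'
      · have e : ph B L a (w + y) = 1 := by
          rw [K.ph_add ha haw hay, h, h', hwy, zero_add, zero_add]
        exact ⟨w + y, hne _ e, by rw [map_add, haw, hay, add_zero],
          by rw [map_add, hbw, hby, add_zero], e⟩
      · exact ⟨y, hne _ h', hay, hby, h'⟩
    · exact ⟨w, hw, haw, hbw, h⟩
  -- an element fixing `a` and changing the level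
  obtain ⟨g, hg, hga, hgb⟩ : ∃ g ∈ L, g a = a ∧ g b = b + v := by
    have hp := K.ph_spec (hall v hv1) (v := a) (by rw [K.symp.symm, hav])
    rw [← K.ph_comm hq hall K.ne hv1 hav, hphv] at hp
    obtain ⟨g, hg, hgx⟩ := hp
    refine ⟨g, hg, by rw [hgx]; exact uFun_fix hav (K.symp.self a), ?_⟩
    rw [hgx, uFun, hbv, hba, zero_smul, add_zero, mul_zero, zero_smul, add_zero, one_smul]
  have hu : B a (z + b) = 0 := by rw [map_add, haz, hab, CharTwo.add_self_eq_zero]
  rcases hq (ph B L a (z + b) + B b z) with h | h
  · obtain ⟨k, hk, hkx⟩ := K.ph_spec ha hu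
    refine ⟨k, hk, by rw [hkx]; exact uFun_fix (K.symp.self a) hu, ?_⟩
    rw [hkx]
    simp only [uFun, hba, map_add, K.symp.self]
    match_scalars <;>
      first
        | linear_combination (1 : F) * h2
        | linear_combination h
        | ring
  · have hu' : B a (z + b + v) = 0 := by rw [map_add, hu, hav, add_zero]
    obtain ⟨k, hk, hkx⟩ := K.ph_spec ha hu'
    refine ⟨k * g, mul_mem hk hg, by
      rw [LinearEquiv.mul_apply, hga, hkx]; exact uFun_fix (K.symp.self a) hu', ?_⟩
    rw [LinearEquiv.mul_apply, hgb, hkx, K.ph_add ha hu hav, hphv]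
    simp only [uFun, map_add, LinearMap.add_apply, hba, K.symp.self, K.symp.symm v a, hav,
      K.symp.symm v b, hbv, K.symp.symm v z]
    match_scalars <;>
      first
        | linear_combination (1 : F) * h2
        | linear_combination h + (B z v + 1) * h2
        | linear_combination h + (B z v) * h2
        | ring

/-- The order of `L`. -/
theorem card_dvd [Finite F] (hdim : finrank F V = 4) : 120 ∣ Nat.card L := by
  haveI : Finite V := Module.finite_of_finite F
  have hF : Nat.card F = 2 := by
    rw [Nat.card_eq_two_iff]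
    exact ⟨0, 1, zero_ne_one, Set.eq_univ_of_forall fun k => by simpa using hq k⟩
  have hV : Nat.card V = 16 := by
    rw [Module.natCard_eq_pow_finrank (K := F), hF, hdim]; norm_num
  have horbit : MulAction.orbit L a = {z : V | z ≠ 0} := by
    ext z
    constructor
    · rintro ⟨g, rfl⟩
      exact (LinearEquiv.map_ne_zero_iff g.1).2 K.ne
    · intro hz
      obtain ⟨k, g, hg, hk, rfl⟩ := hall z hz
      rw [(hq k).resolve_left hk, one_smul]
      exact ⟨⟨g, hg⟩, rfl⟩
  have h15 : (MulAction.stabilizer L a).index = 15 := by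
    rw [MulAction.index_stabilizer, horbit, show {z : V | z ≠ 0} = {0}ᶜ from rfl, Set.ncard_compl,
      Set.ncard_singleton, hV]
  obtain ⟨b, hab⟩ := K.symp.exists_pair K.ne
  set St := MulAction.stabilizer L a
  have horbit' : MulAction.orbit St b = {z : V | B a z = 1} := by
    ext z
    constructor
    · rintro ⟨⟨⟨g, hg⟩, hga⟩, rfl⟩
      show B a (g b) = 1
      rw [MulAction.mem_stabilizer_iff] at hga
      change g a = a at hga
      conv_lhs => rw [← hga]
      rw [K.pres g hg, hab]
    · intro hz
      obtain ⟨h, hh, hha, hhb⟩ := K.exists_fix_map hq hall hdim hab hz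
      exact ⟨⟨⟨h, hh⟩, MulAction.mem_stabilizer_iff.2 hha⟩, hhb⟩
  have h8 : 8 ∣ Nat.card St := by
    have e : Nat.card {z : V | B a z = 1} = 8 := by
      let e : {z : V | B a z = 1} ≃ LinearMap.ker (B a) :=
        { toFun := fun z => ⟨z.1 + b, by
            rw [LinearMap.mem_ker, map_add, show B a z.1 = 1 from z.2, hab,
              CharTwo.add_self_eq_zero]⟩
          invFun := fun z => ⟨z.1 + b, by
            show B a (z.1 + b) = 1
            rw [map_add, LinearMap.mem_ker.1 z.2, hab, zero_add]⟩
          left_inv := fun z => Subtype.ext (by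
            show z.1 + b + b = z.1
            rw [add_assoc, ← two_smul F b, CharTwo.two_eq_zero, zero_smul, add_zero])
          right_inv := fun z => Subtype.ext (by
            show z.1 + b + b = z.1
            rw [add_assoc, ← two_smul F b, CharTwo.two_eq_zero, zero_smul, add_zero]) }
      rw [Nat.card_congr e, Module.natCard_eq_pow_finrank (K := F), hF]
      have h1 := LinearMap.finrank_range_add_finrank_ker (B a)
      have h2 : LinearMap.range (B a) = ⊤ :=
        LinearMap.range_eq_top.2 fun c => ⟨c • b, by rw [map_smul, hab, smul_eq_mul, mul_one]⟩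
      rw [h2, finrank_top, finrank_self, hdim] at h1
      rw [show finrank F (LinearMap.ker (B a)) = 3 by omega]
      norm_num
    refine ⟨Nat.card (MulAction.stabilizer St b), ?_⟩
    rw [← Subgroup.index_mul_card (MulAction.stabilizer St b), MulAction.index_stabilizer,
      horbit', ← Nat.card_coe_set_eq, e]
  have h := Subgroup.index_mul_card St
  rw [h15] at h
  obtain ⟨m, hm⟩ := h8
  exact ⟨m, by rw [← h, hm]; ring⟩

end Conf₀

open Equiv in
/-- Proper subgroups of `S₆` of order divisible by 120. -/
theorem perm_six_cases (H : Subgroup (Perm (Fin 6))) (hd : 120 ∣ Nat.card H) (hne : H ≠ ⊤) :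
    Nonempty (H ≃* alternatingGroup (Fin 6)) ∨ Nonempty (H ≃* Perm (Fin 5)) := by
  have h6 : Fintype.card (Fin 6) = 6 := Fintype.card_fin 6
  obtain ⟨m, hm⟩ := hd
  have hmul := H.card_mul_index
  rw [SymSix.card_perm h6, hm] at hmul
  have hdvd : H.index ∣ 6 := ⟨m, by nlinarith⟩
  have hne1 : H.index ≠ 1 := fun h => hne (Subgroup.index_eq_one.1 h)
  have hle : H.index ≤ 6 := Nat.le_of_dvd (by norm_num) hdvd
  interval_cases hi : H.index <;>
    first | omega | skip
  · exact Or.inl ⟨MulEquiv.subgroupCongr (Perm.eq_alternatingGroup_of_index_eq_two hi)⟩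
  · exfalso
    haveI : IsSimpleGroup (alternatingGroup (Fin 6)) :=
      alternatingGroup.isSimpleGroup (by simp)
    have hK : H.normalCore.index ∣ 6 := by
      have h1 : H.normalCore.index =
          Nat.card (MulAction.toPermHom (Perm (Fin 6)) (Perm (Fin 6) ⧸ H)).range := by
        rw [Subgroup.normalCore_eq_ker, Subgroup.index_ker]
      rw [h1]
      have h2 := Subgroup.card_subgroup_dvd_card
        (MulAction.toPermHom (Perm (Fin 6)) (Perm (Fin 6) ⧸ H)).range
      rw [Nat.card_perm, ← Subgroup.index_eq_card, hi] at h2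
      exact h2
    rcases (inferInstance :
        (H.normalCore.subgroupOf (alternatingGroup (Fin 6))).Normal).eq_bot_or_eq_top with hb | ht
    · have h1 := Subgroup.index_inf_le (H := H.normalCore) (K := alternatingGroup (Fin 6))
      rw [Subgroup.subgroupOf_eq_bot, disjoint_iff] at hb
      rw [hb, Subgroup.index_bot, SymSix.card_perm h6, alternatingGroup.index_eq_two] at h1
      have := Nat.le_of_dvd (by norm_num) hK
      omega
    · have hle : alternatingGroup (Fin 6) ≤ H :=
        (Subgroup.subgroupOf_eq_top.1 ht).trans H.normalCore_le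
      have := Subgroup.index_dvd_of_le hle
      rw [alternatingGroup.index_eq_two, hi] at this
      norm_num at this
  · obtain ⟨ψ, c, hc⟩ := SymSix.exists_mulEquiv_comap_stabilizer h6 hi
    have h1 : H.map ψ.toMonoidHom = MulAction.stabilizer (Perm (Fin 6)) c := by
      rw [hc, Subgroup.map_comap_eq_self_of_surjective ψ.surjective]
    exact Or.inr ⟨((ψ.subgroupMap H).trans (MulEquiv.subgroupCongr h1)).trans
      (SymSix.nonempty_stabilizer_mulEquiv c (n := 5) h6).some⟩

end CfsgLib.SpOver
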