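import Cfsg.Agent.Lib.SpOver.Endgame
import Cfsg.Agent.Lib.SpOver.Two
import Cfsg.Agent.Lib.SpOver.Radical
import Cfsg.Agent.Lib.Linear.Symplectic
import Cfsg.Agent.Lib.Linear.Sp4Two
import Cfsg.Agent.Lib.Solvable.Core

/-!
Matrix form: irreducible overgroups in `Sp₂ₙ(q)`, `q` even, of a subgroup of order `q^(2n-2)` of
the radical of a vector stabiliser without transvections.
-/

set_option autoImplicit false

namespace CfsgLib.SpOver

open Module Matrix Cfsg

variable (F : Type*) [Field F] [CharP F 2] (n : ℕ)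

/-- The symplectic form as a bilinear map. -/
noncomputable def stdB : LinearMap.BilinForm F (Fin n ⊕ Fin n → F) :=
  LinearMap.mk₂ F (sympForm n F) CfsgLib.Linear.Symp.form_add_left
    (fun k u v => by rw [CfsgLib.Linear.Symp.form_smul_left, smul_eq_mul])
    CfsgLib.Linear.Symp.form_add_right
    (fun k u v => by rw [CfsgLib.Linear.Symp.form_smul_right, smul_eq_mul])

theorem stdB_apply (u v : Fin n ⊕ Fin n → F) : stdB F n u v = sympForm n F u v := rfl

theorem isSymp_stdB : IsSymp (stdB F n) :=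
  ⟨fun x => CfsgLib.Linear.Symp.form_self x,
    fun x h => CfsgLib.Linear.Symp.eq_zero_of_forall_form h⟩

/-- Matrices as linear automorphisms. -/
noncomputable def toAut : GL (Fin n ⊕ Fin n) F ≃* ((Fin n ⊕ Fin n → F) ≃ₗ[F] (Fin n ⊕ Fin n → F)) :=
  Matrix.GeneralLinearGroup.toLin.trans (LinearMap.GeneralLinearGroup.generalLinearEquiv F _)

omit [CharP F 2] in
theorem toAut_apply (g : GL (Fin n ⊕ Fin n) F) (x : Fin n ⊕ Fin n → F) :
    toAut F n g x = (g : Matrix (Fin n ⊕ Fin n) (Fin n ⊕ Fin n) F) *ᵥ x := by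
  simp [toAut]

variable {F} {n}

theorem sum_eq_sympForm (u v : Fin n ⊕ Fin n → F) :
    (∑ i : Fin n, (u (Sum.inl i) * v (Sum.inr i) + u (Sum.inr i) * v (Sum.inl i))) =
      sympForm n F u v := by
  rw [CfsgLib.Linear.Symp.sympForm_eq_sum]
  exact Finset.sum_congr rfl fun i _ => by rw [CharTwo.sub_eq_add]; ring

theorem mem_symp {G : Subgroup (GL (Fin n ⊕ Fin n) F)}
    (hG : ∀ g, g ∈ G ↔ ∀ u v, stdB F n (toAut F n g u) (toAut F n g v) = stdB F n u v)
    {g : GL (Fin n ⊕ Fin n) F} (hg : g ∈ G) :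
    (g : Matrix (Fin n ⊕ Fin n) (Fin n ⊕ Fin n) F) ∈ symplecticGroup (Fin n) F :=
  CfsgLib.Linear.Symp.mem_of_form_mulVec fun u v => by
    have h := (hG g).1 hg u v
    rwa [toAut_apply, toAut_apply, stdB_apply, stdB_apply] at h

/-- The main theorem. -/
theorem main [Fintype F] (hn : 2 ≤ n) (a : Fin n ⊕ Fin n → F) (ha : a ≠ 0)
    (G : Subgroup (GL (Fin n ⊕ Fin n) F))
    (hG : ∀ g, g ∈ G ↔ ∀ u v, stdB F n (toAut F n g u) (toAut F n g v) = stdB F n u v)
    (X : Subgroup (GL (Fin n ⊕ Fin n) F)) (hXG : X ≤ G)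
    (hXO : ∀ H : Subgroup (GL (Fin n ⊕ Fin n) F), (∀ g, g ∈ H ↔ (g ∈ G ∧ toAut F n g a = a)) →
      X ≤ (Cfsg.pCore 2 ↥H).map H.subtype)
    (hcard : Nat.card ↥X = Fintype.card F ^ (2 * n - 2))
    (hntv : ∀ x ∈ X, ((x : Matrix (Fin n ⊕ Fin n) (Fin n ⊕ Fin n) F) - 1).rank ≠ 1)
    (L : Subgroup (GL (Fin n ⊕ Fin n) F)) (hXL : X ≤ L) (hLG : L ≤ G)
    (hirr : ∀ W : Submodule F (Fin n ⊕ Fin n → F), (∀ g ∈ L, ∀ w ∈ W, toAut F n g w ∈ W) →
      W = ⊥ ∨ W = ⊤) :
    L = G ∨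
    (∃ Q : QuadraticForm F (Fin n ⊕ Fin n → F),
      (∀ u v, QuadraticMap.polar ⇑Q u v = stdB F n u v) ∧
      (L = Cfsg.isometryGroup F ⇑Q ∨
        ∀ g : GL (Fin n ⊕ Fin n) F, g ∈ L ↔ (g ∈ Cfsg.isometryGroup F ⇑Q ∧
          Even ((g : Matrix (Fin n ⊕ Fin n) (Fin n ⊕ Fin n) F) - 1).rank))) ∨
    (Fintype.card F = 2 ∧ n = 2 ∧
      (Nonempty (↥L ≃* ↥(alternatingGroup (Fin 6))) ∨ Nonempty (↥L ≃* Equiv.Perm (Fin 5)))) := by
  classical
  have hB := isSymp_stdB F n
  set B := stdB F n with hBdef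
  set e := toAut F n with he
  have hdim : finrank F (Fin n ⊕ Fin n → F) = 2 * n := by simp; ring
  obtain ⟨b, hab⟩ := hB.exists_pair ha
  -- the stabiliser of `a` and its radical
  let H : Subgroup (GL (Fin n ⊕ Fin n) F) :=
    { carrier := {g | g ∈ G ∧ e g a = a}
      one_mem' := ⟨one_mem G, by rw [map_one]; rfl⟩
      mul_mem' := fun {g h} hg hh => ⟨mul_mem hg.1 hh.1, by
        rw [map_mul, LinearEquiv.mul_apply, hh.2, hg.2]⟩
      inv_mem' := fun {g} hg => ⟨inv_mem hg.1, by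
        rw [map_inv]
        exact (LinearEquiv.symm_apply_eq _).2 hg.2.symm⟩ }
  have hH : ∀ g, g ∈ H ↔ (g ∈ G ∧ e g a = a) := fun g => Iff.rfl
  have hXN := hXO H hH
  let N : Set ((Fin n ⊕ Fin n → F) ≃ₗ[F] (Fin n ⊕ Fin n → F)) :=
    {φ | ∃ h : H, h ∈ Cfsg.pCore 2 ↥H ∧ e h.1 = φ}
  have htv : ∀ v, B a v = 0 → e.symm (tvEquiv hB v) ∈ H := fun v hv => by
    refine ⟨(hG _).2 fun x y => ?_, ?_⟩
    · rw [MulEquiv.apply_symm_apply]; exact tvEquiv_pres hB v x y
    · rw [MulEquiv.apply_symm_apply, tvEquiv_apply, hv, zero_smul, add_zero]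
  have hrad : ∀ φ ∈ N, ∃ v c, B a v = 0 ∧ ∀ x, φ x = uFun B a v c x := by
    intro φ hφ
    refine eq_uFun hB hab N ?_ ?_ ?_ ?_ hφ
    · rintro _ ⟨h, -, rfl⟩; exact h.2.2
    · rintro _ ⟨h, -, rfl⟩; exact (hG _).1 h.2.1
    · rintro _ ⟨h, hh, rfl⟩
      obtain ⟨k, hk⟩ := CfsgLib.Solvable.pCore_isPGroup (p := 2) H ⟨h, hh⟩
      refine ⟨k, ?_⟩
      rw [← map_pow]
      have h1 : (h.1 : GL (Fin n ⊕ Fin n) F) ^ 2 ^ k = 1 := by
        simpa using congrArg (fun z => ((z : ↥(Cfsg.pCore 2 ↥H)) : H).1) hk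
      rw [h1, map_one]
    · rintro _ ⟨h, hh, rfl⟩ v hv
      haveI := CfsgLib.Solvable.pCore_normal (p := 2) H
      set t : H := ⟨_, htv v hv⟩ with ht
      refine ⟨h * (t * h⁻¹ * t⁻¹), mul_mem hh (Subgroup.Normal.conj_mem inferInstance _
        (inv_mem hh) t), ?_⟩
      simp [ht, mul_assoc]
  -- parameters of the elements of `X`
  have hXv : ∀ x : X, ∃ v c, B a v = 0 ∧ ∀ y, e x.1 y = uFun B a v c y := fun x => by
    obtain ⟨h, hh, hhx⟩ := hXN x.2
    exact hrad _ ⟨h, hh, congrArg e hhx⟩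
  choose vX cX hvX hX using hXv
  set L' := L.map e.toMonoidHom with hL'
  have hmem : ∀ g, g ∈ L → e g ∈ L' := fun g hg => ⟨g, hg, rfl⟩
  have hmem' : ∀ g, e g ∈ L' → g ∈ L := by
    rintro g ⟨g', hg', h⟩
    exact e.injective h ▸ hg'
  have hnt : ∀ x : X, ∀ c, (∀ y, e x.1 y = uFun B a 0 c y) → c = 0 := by
    intro x c hc
    by_contra hc0
    refine hntv x.1 x.2 ?_
    have h1 : LinearMap.range ((x.1 : Matrix (Fin n ⊕ Fin n) (Fin n ⊕ Fin n) F) - 1).mulVecLin =
        F ∙ a := by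
      have h2 : ∀ y, ((x.1 : Matrix (Fin n ⊕ Fin n) (Fin n ⊕ Fin n) F) - 1).mulVecLin y =
          (c * B y a) • a := fun y => by
        rw [Matrix.mulVecLin_apply, Matrix.sub_mulVec, Matrix.one_mulVec, ← toAut_apply, ← he, hc]
        simp [uFun]
      refine le_antisymm ?_ ?_
      · rintro _ ⟨y, rfl⟩
        rw [h2]
        exact Submodule.smul_mem _ _ (Submodule.mem_span_singleton_self a)
      · rw [Submodule.span_singleton_le_iff_mem]
        refine ⟨c⁻¹ • b, ?_⟩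
        rw [h2, map_smul, LinearMap.smul_apply, hB.symm b a, hab, smul_eq_mul, mul_one,
          mul_inv_cancel₀ hc0, one_smul]
    rw [Matrix.rank, h1, finrank_span_singleton ha]
  have hsurj : ∀ v, B a v = 0 → ∃ c, In B L' a v c := by
    intro v hv
    let Φ : X × F → LinearMap.ker (B a) := fun p => ⟨vX p.1 + p.2 • a, by
      rw [LinearMap.mem_ker, map_add, map_smul, hvX, hB.self, smul_zero, add_zero]⟩
    have hinj : Function.Injective Φ := by
      rintro ⟨x, k⟩ ⟨x', k'⟩ h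
      have h1 : vX x + k • a = vX x' + k' • a := congrArg Subtype.val h
      have h2 : vX x + vX x' = (k + k') • a := by
        have h3 := congrArg (fun z => z + (vX x' + k • a)) h1
        have e1 : vX x + k • a + (vX x' + k • a) = vX x + vX x' := by
          rw [add_add_add_comm, add_self_vec F, add_zero]
        have e2 : vX x' + k' • a + (vX x' + k • a) = (k + k') • a := by
          rw [add_add_add_comm, add_self_vec F, zero_add, ← add_smul, add_comm k' k]
        rw [e1, e2] at h3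
        exact h3
      have h4 : ∀ y, e (x * x').1 y = uFun B a 0 (cX x + cX x' + B (vX x) (vX x')) y := fun y => by
        rw [Subgroup.coe_mul, map_mul, LinearEquiv.mul_apply, hX, hX,
          uFun_comp hB (hvX x) (hvX x'), h2]
        simpa using uFun_add_smul hB (v := 0) (k + k') (cX x + cX x' + B (vX x) (vX x')) y
      have h5 := hnt _ _ h4
      rw [h5] at h4
      have h6 : x * x' = 1 := by
        refine Subtype.ext (e.injective (LinearEquiv.ext fun y => ?_))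
        rw [h4, Subgroup.coe_one, map_one]
        simp [uFun]
      have h7 : x * x = 1 := by
        refine Subtype.ext (e.injective (LinearEquiv.ext fun y => ?_))
        rw [Subgroup.coe_mul, map_mul, LinearEquiv.mul_apply, hX, hX,
          uFun_comp hB (hvX x) (hvX x), add_self_vec F, hB.self, CharTwo.add_self_eq_zero,
          add_zero, Subgroup.coe_one, map_one]
        simp [uFun]
      obtain rfl : x' = x := mul_left_cancel (h6.trans h7.symm)
      rw [add_right_inj] at h1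
      rw [smul_left_injective F ha h1]
    have hc : Nat.card (X × F) = Nat.card (LinearMap.ker (B a)) := by
      rw [Nat.card_prod, hcard, Nat.card_eq_fintype_card, Module.natCard_eq_pow_finrank (K := F),
        Nat.card_eq_fintype_card]
      have h1 := LinearMap.finrank_range_add_finrank_ker (B a)
      have h2 : LinearMap.range (B a) = ⊤ :=
        LinearMap.range_eq_top.2 fun c => ⟨c • b, by rw [map_smul, hab, smul_eq_mul, mul_one]⟩
      rw [h2, finrank_top, finrank_self, hdim] at h1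
      rw [← pow_succ]
      congr 1
      omega
    obtain ⟨⟨x, k⟩, hp⟩ := ((Nat.bijective_iff_injective_and_card Φ).2 ⟨hinj, hc⟩).2
      ⟨v, LinearMap.mem_ker.2 hv⟩
    have hp' : vX x + k • a = v := congrArg Subtype.val hp
    exact ⟨cX x, hp' ▸ (In.mod_self hB k).2 ⟨e x.1, hmem _ (hXL x.2), hX x⟩⟩
  have K : Conf B L' a :=
    ⟨hB, by rintro _ ⟨g, hg, rfl⟩; exact (hG g).1 (hLG hg), ha, hsurj, fun W hW =>
      hirr W fun g hg w hw => hW _ (hmem g hg) w hw⟩
  have hd4 : 4 ≤ finrank F (Fin n ⊕ Fin n → F) := by rw [hdim]; omega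
  have hfull : (∀ z, Full B L' z) → L = G := by
    intro h
    refine le_antisymm hLG fun g hg => ?_
    let S : Subgroup (symplecticGroup (Fin n) F) :=
      { carrier := {s | ∃ g ∈ L, (g : Matrix (Fin n ⊕ Fin n) (Fin n ⊕ Fin n) F) = s.1}
        one_mem' := ⟨1, one_mem L, rfl⟩
        mul_mem' := by
          rintro s t ⟨g, hg, h1⟩ ⟨g', hg', h2⟩
          exact ⟨g * g', mul_mem hg hg', by simp [h1, h2]⟩
        inv_mem' := by
          rintro s ⟨g, hg, h1⟩
          refine ⟨g⁻¹, inv_mem hg, ?_⟩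
          have h2 : ((g⁻¹ : GL (Fin n ⊕ Fin n) F) : Matrix (Fin n ⊕ Fin n) (Fin n ⊕ Fin n) F) *
              (s : Matrix (Fin n ⊕ Fin n) (Fin n ⊕ Fin n) F) = 1 := by
            rw [← h1]; exact Units.inv_mul g
          have h3 : (s : Matrix (Fin n ⊕ Fin n) (Fin n ⊕ Fin n) F) * (s⁻¹ : symplecticGroup _ _).1 =
              1 := congrArg Subtype.val (mul_inv_cancel s)
          calc _ = ((g⁻¹ : GL (Fin n ⊕ Fin n) F) : Matrix (Fin n ⊕ Fin n) (Fin n ⊕ Fin n) F) *
                ((s : Matrix (Fin n ⊕ Fin n) (Fin n ⊕ Fin n) F) *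
                  (s⁻¹ : symplecticGroup _ _).1) := by rw [h3, mul_one]
            _ = _ := by rw [← mul_assoc, h2, one_mul] }
    have htop : S = ⊤ := by
      rw [eq_top_iff, ← CfsgLib.Linear.Symp.transvectionSubgroup_eq_top,
        CfsgLib.Linear.Symp.transvectionSubgroup, Subgroup.closure_le]
      rintro s ⟨w, c, hs⟩
      obtain ⟨_, ⟨g', hg', rfl⟩, hx⟩ := h w c
      refine ⟨g', hg', Matrix.ext_of_mulVec_single fun i => ?_⟩
      rw [← toAut_apply, hs, CfsgLib.Linear.Symp.transvection_mulVec]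
      exact (hx _).trans (by simp [uFun, hBdef, stdB_apply, CfsgLib.Linear.Symp.form_zero_right])
    obtain ⟨g', hg', hgg⟩ := (htop ▸ Subgroup.mem_top (⟨_, mem_symp hG hg⟩ : symplecticGroup (Fin n) F) :
      (⟨_, mem_symp hG hg⟩ : symplecticGroup (Fin n) F) ∈ S)
    rwa [← Units.ext hgg]
  by_cases hT : ∃ τ, τ ≠ 0 ∧ In B L' a 0 τ
  · obtain ⟨τ, h0, hτ⟩ := hT
    exact Or.inl (hfull (K.all_transvections hd4 h0 hτ))
  push Not at hT
  have K₀ : Conf₀ B L' a := ⟨K, fun c hc => of_not_not fun h => hT c h hc⟩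
  have hquad : (∃ b Q, Orb L' a b ∧ QData B L' a b Q) →
      ∃ Q : QuadraticForm F (Fin n ⊕ Fin n → F),
      (∀ u v, QuadraticMap.polar ⇑Q u v = B u v) ∧
      (L = Cfsg.isometryGroup F ⇑Q ∨
        ∀ g : GL (Fin n ⊕ Fin n) F, g ∈ L ↔ (g ∈ Cfsg.isometryGroup F ⇑Q ∧
          Even ((g : Matrix (Fin n ⊕ Fin n) (Fin n ⊕ Fin n) F) - 1).rank)) := by
    rintro ⟨b, Q, hb, D⟩
    refine ⟨Q, D.polar_eq, ?_⟩
    have hiso : ∀ g, g ∈ Cfsg.isometryGroup F ⇑Q ↔ e g ∈ CfsgLib.Classical.Quad.Orth Q := by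
      intro g
      constructor
      · intro h x; rw [he, toAut_apply]; exact h x x
      · intro h u v
        show Q (_ *ᵥ u) = Q u
        rw [Units.coeHom_apply, ← toAut_apply]; exact h u
    have hrank : ∀ g (h : e g ∈ CfsgLib.Classical.Quad.Orth Q),
        CfsgLib.Orth.moved (⟨e g, h⟩ : CfsgLib.Classical.Quad.Orth Q) =
          ((g : Matrix (Fin n ⊕ Fin n) (Fin n ⊕ Fin n) F) - 1).rank := by
      intro g h
      unfold CfsgLib.Orth.moved Matrix.rank
      refine congrArg (fun l => finrank F (LinearMap.range l)) (LinearMap.ext fun x => ?_)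
      rw [CfsgLib.Orth.subOne_apply, Matrix.mulVecLin_apply, Matrix.sub_mulVec, Matrix.one_mulVec,
        ← toAut_apply]
    have hL : ∀ g, g ∈ L ↔ e g ∈ L' := fun g => ⟨hmem g, hmem' g⟩
    rcases endgame K hd4 hb D with h | h
    · exact Or.inl (Subgroup.ext fun g => by rw [hL, h, hiso])
    · refine Or.inr fun g => ?_
      rw [hL, h, hiso]
      constructor
      · rintro ⟨h1, h2⟩; exact ⟨h1, hrank g h1 ▸ h2⟩
      · rintro ⟨h1, h2⟩; exact ⟨h1, (hrank g h1).symm ▸ h2⟩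
  by_cases hq : ∃ k : F, k ≠ 0 ∧ k ≠ 1
  · exact Or.inr (Or.inl (hquad (K₀.exists_qdata hd4 hq)))
  push Not at hq
  have hq' : ∀ k : F, k = 0 ∨ k = 1 := fun k => or_iff_not_imp_left.2 (hq k)
  rcases K₀.exists_qdata_or hd4 hq' with h | hall
  · exact Or.inr (Or.inl (hquad h))
  have hlt := K₀.finrank_lt_six hq' hall
  rw [hdim] at hlt
  have hn2 : n = 2 := by omega
  subst hn2
  have hcardF : Fintype.card F = 2 := by
    rw [← Nat.card_eq_fintype_card, Nat.card_eq_two_iff]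
    exact ⟨0, 1, zero_ne_one, Set.eq_univ_of_forall fun k => by simpa using hq' k⟩
  refine Or.inr (Or.inr ⟨hcardF, rfl, ?_⟩)
  obtain ⟨eS⟩ := CfsgLib.Linear.Sp4Two.exists_Sp4_equiv_S6 hcardF
  let ρ : L →* symplecticGroup (Fin 2) F :=
    { toFun := fun g => ⟨_, mem_symp hG (hLG g.2)⟩
      map_one' := rfl
      map_mul' := fun _ _ => rfl }
  let π : L →* Equiv.Perm (Fin 6) := eS.toMonoidHom.comp ρ
  have hπ : Function.Injective π := eS.injective.comp fun g g' h =>
    Subtype.ext (Units.ext (congrArg (fun s : symplecticGroup (Fin 2) F => s.1) h))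
  have hc : 120 ∣ Nat.card π.range := by
    have h := K₀.card_dvd hq' hall (by rw [hdim])
    rw [hL', Subgroup.card_map_of_injective (f := e.toMonoidHom) e.injective] at h
    rwa [← Nat.card_congr (MonoidHom.ofInjective hπ).toEquiv]
  have hne : π.range ≠ ⊤ := by
    intro htop
    obtain ⟨g, hg⟩ : eS (CfsgLib.Linear.Symp.tv a 1) ∈ π.range := htop ▸ Subgroup.mem_top _
    have h1 : ρ g = CfsgLib.Linear.Symp.tv a 1 := eS.injective hg
    refine one_ne_zero (K₀.noTr 1 ⟨e g.1, hmem _ g.2, fun x => ?_⟩)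
    rw [he, toAut_apply]
    change (ρ g).1 *ᵥ x = _
    rw [h1]
    change sympTransvection 2 a 1 *ᵥ x = _
    rw [CfsgLib.Linear.Symp.transvection_mulVec]
    simp [uFun, hBdef, stdB_apply, CfsgLib.Linear.Symp.form_zero_right]
  let eπ : L ≃* π.range := MonoidHom.ofInjective hπ
  rcases perm_six_cases π.range hc hne with f | f
  · exact Or.inl ⟨eπ.trans f.some⟩
  · exact Or.inr ⟨eπ.trans f.some⟩

end CfsgLib.SpOver
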