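import Cfsg.Agent.Lib.SpOver.Basic

/-!
If some element of the family at `a` is a transvection then `L` contains every transvection.
-/

set_option autoImplicit false

namespace CfsgLib.SpOver

open Module

variable {F V : Type*} [Field F] [CharP F 2] [AddCommGroup V] [Module F V]
  {B : LinearMap.BilinForm F V} {L : Subgroup (V ≃ₗ[F] V)} {a : V}

/-- All transvections centred at `x` lie in `L`. -/
def Full (B : LinearMap.BilinForm F V) (L : Subgroup (V ≃ₗ[F] V)) (x : V) : Prop :=
  ∀ c, In B L x 0 c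

omit [CharP F 2] in
theorem uFun_fix {a v x : V} {c : F} (h : B x a = 0) (h' : B x v = 0) : uFun B a v c x = x := by
  simp [uFun, h, h']

omit [CharP F 2] in
theorem uFun_perp {a v x : V} {c : F} (h : B x a = 0) :
    uFun B a v c x = x + B x v • a := by
  simp [uFun, h]

omit [CharP F 2] in
/-- Two vectors have a common non-zero orthogonal in dimension at least four. -/
theorem exists_orth_pair [FiniteDimensional F V] (hdim : 4 ≤ finrank F V)
    (B : LinearMap.BilinForm F V) (a b : V) : ∃ w, w ≠ 0 ∧ B a w = 0 ∧ B b w = 0 := by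
  set f : V →ₗ[F] F × F := (B a).prod (B b) with hf
  have h := LinearMap.finrank_range_add_finrank_ker f
  have h2 : finrank F (LinearMap.range f) ≤ 2 := by
    refine (Submodule.finrank_le _).trans ?_
    rw [finrank_prod, finrank_self]
  obtain ⟨w, hw, hw0⟩ : ∃ w ∈ LinearMap.ker f, w ≠ 0 :=
    Submodule.exists_mem_ne_zero_of_ne_bot fun h0 => by
      rw [h0, finrank_bot] at h
      omega
  rw [LinearMap.mem_ker, hf, LinearMap.prod_apply, Prod.mk_eq_zero] at hw
  exact ⟨w, hw0, hw⟩

namespace Conf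

variable (K : Conf B L a)
include K

/-- The transvection groups at two orthogonal points of the orbit. -/
theorem tr_key [FiniteDimensional F V] {x y : V} (hy : Orb L a y) (hxy : B x y = 0)
    (hne : ∀ k : F, x ≠ k • y) {τ : F} (hτ : τ ≠ 0) (hT : In B L x 0 τ) (s : F) :
    In B L y (s • x) (s * s / τ) := by
  obtain ⟨w, hyw, hxw⟩ := K.symp.exists_sep hne (s / τ)
  obtain ⟨c, hc⟩ := K.hyp_of_orb hy hyw
  obtain ⟨g, hg, hgx⟩ := hT
  have hgy : g y = y := by
    rw [hgx]; exact uFun_fix (by rw [K.symp.symm, hxy]) (map_zero _)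
  have hgw : g w = w + s • x := by
    rw [hgx]
    simp only [uFun, map_zero, smul_zero, zero_smul, add_zero]
    rw [K.symp.symm w x, hxw, mul_div_cancel₀ s hτ]
  have hc' := hc.conj K.pres hg
  rw [hgy, hgw] at hc'
  have hys : B y (w + s • x) = 0 := by
    rw [map_add, map_smul, hyw, zero_add, K.symp.symm y x, hxy, smul_zero]
  have h := hc'.mul K.symp hc hys hyw
  have e1 : w + s • x + w = s • x := by
    rw [add_comm (w + s • x) w, ← add_assoc]
    have : w + w = 0 := by
      rw [← two_smul F w, CharTwo.two_eq_zero, zero_smul]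
    rw [this, zero_add]
  have e2 : c + c + B (w + s • x) w = s * s / τ := by
    rw [CharTwo.add_self_eq_zero, zero_add, map_add, LinearMap.add_apply, map_smul,
      LinearMap.smul_apply, K.symp.self, zero_add, hxw, smul_eq_mul, mul_div_assoc]
  rwa [e1, e2] at h

theorem full_of_two [Finite F] [FiniteDimensional F V] {x y : V} (hy : Orb L a y) (hxy : B x y = 0)
    (hne : ∀ k : F, x ≠ k • y) {τ τ' : F} (hτ : τ ≠ 0) (hτ' : τ' ≠ 0) (hd : τ ≠ τ')
    (hT : In B L x 0 τ) (hT' : In B L x 0 τ') : Full B L y := by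
  intro c
  set e := τ⁻¹ + τ'⁻¹ with he
  have he0 : e ≠ 0 := fun h => hd (inv_injective (CharTwo.add_eq_zero.1 h))
  obtain ⟨s, hs⟩ := FiniteField.isSquare_of_char_two (ringChar.eq F 2) (c / e)
  have hB : B y (s • x) = 0 := by rw [map_smul, K.symp.symm y x, hxy, smul_zero]
  have h := (K.tr_key hy hxy hne hτ hT s).mul K.symp (K.tr_key hy hxy hne hτ' hT' s) hB hB
  have e1 : s • x + s • x = 0 := by
    rw [← two_smul F (s • x), CharTwo.two_eq_zero, zero_smul]
  have e2 : s * s / τ + s * s / τ' + B (s • x) (s • x) = c := by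
    rw [K.symp.self, add_zero, div_eq_mul_inv, div_eq_mul_inv, ← mul_add, ← he, ← hs,
      div_mul_cancel₀ c he0]
  rwa [e1, e2] at h

omit [CharP F 2] in
theorem tr_map {x : V} {g : V ≃ₗ[F] V} (hg : g ∈ L) {c : F} :
    In B L (g x) 0 c ↔ In B L x 0 c := by
  constructor
  · intro h
    have h' := h.conj K.pres (inv_mem hg)
    simpa using h'
  · intro h
    simpa using h.conj K.pres hg

theorem tr_smul {x : V} {k c : F} : In B L (k • x) 0 c ↔ In B L x 0 (k * k * c) := by
  rw [In.smul_iff K.symp, smul_zero]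

theorem full_smul {x : V} {k : F} (h : Full B L x) : Full B L (k • x) :=
  fun _ => K.tr_smul.2 (h _)

theorem full_of_orb {x : V} (hx : Orb L a x) (h : Full B L a) : Full B L x := by
  obtain ⟨k, g, hg, -, rfl⟩ := hx
  exact K.full_smul fun c => (K.tr_map hg).2 (h c)

theorem full_self_of_orb {x : V} (hx : Orb L a x) (h : Full B L x) : Full B L a := by
  obtain ⟨k, g, hg, hk, rfl⟩ := hx
  intro c
  have h1 := K.tr_smul.1 (h (c / (k * k)))
  rw [mul_div_cancel₀ c (mul_ne_zero hk hk)] at h1
  exact (K.tr_map hg).1 h1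

theorem exists_tr {x : V} (hx : Orb L a x) {τ : F} (hτ : τ ≠ 0) (hT : In B L a 0 τ) :
    ∃ σ, σ ≠ 0 ∧ In B L x 0 σ := by
  obtain ⟨k, g, hg, hk, rfl⟩ := hx
  refine ⟨τ / (k * k), div_ne_zero hτ (mul_ne_zero hk hk), K.tr_smul.2 ?_⟩
  rw [mul_div_cancel₀ τ (mul_ne_zero hk hk)]
  exact (K.tr_map hg).2 hT

/-- The transvections at `a` form an additive group. -/
def trGroup : AddSubgroup F where
  carrier := {c | In B L a 0 c}
  zero_mem' := in_zero B L a
  add_mem' {x y} hx hy := by
    simpa using In.mul K.symp hx hy (map_zero _) (map_zero _)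
  neg_mem' {x} hx := by rwa [Set.mem_setOf_eq, CharTwo.neg_eq]

/-- Two orthogonal points of the orbit. -/
theorem exists_orth_orb [Finite F] [FiniteDimensional F V] (hdim : 4 ≤ finrank F V) {τ : F}
    (hτ : τ ≠ 0) (hT : In B L a 0 τ) :
    ∃ x y, Orb L a x ∧ Orb L a y ∧ B x y = 0 ∧ (∀ k : F, x ≠ k • y) ∧ ∀ k : F, y ≠ k • x := by
  obtain ⟨b, hb, hab⟩ := K.exists_partner K.ne
  obtain ⟨w₀, hw0, haw, hbw⟩ := exists_orth_pair hdim B a b
  have hkw : ∀ k : F, B a (k • w₀) = 0 := fun k => by rw [map_smul, haw, smul_zero]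
  choose c hc using fun k : F => K.hyp (k • w₀) (hkw k)
  have hninj : ¬ Function.Injective fun k : F => (QuotientAddGroup.mk (c k) : F ⧸ K.trGroup) := by
    intro hinj
    have h1 := Nat.card_le_card_of_injective _ hinj
    have h2 := AddSubgroup.card_eq_card_quotient_mul_card_addSubgroup K.trGroup
    have h3 : 1 < Nat.card K.trGroup := by
      rw [Finite.one_lt_card_iff_nontrivial, AddSubgroup.nontrivial_iff_exists_ne_zero]
      exact ⟨τ, hT, hτ⟩
    have h4 : 0 < Nat.card (F ⧸ K.trGroup) := Nat.card_pos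
    nlinarith
  rw [Function.Injective] at hninj
  push Not at hninj
  obtain ⟨k, k', he, hne⟩ := hninj
  rw [QuotientAddGroup.eq, CharTwo.neg_eq] at he
  set w := (k + k') • w₀ with hw
  have h1 : In B L a w (c k + c k') := by
    have h := (hc k).mul K.symp (hc k') (hkw k) (hkw k')
    simpa [hw, ← add_smul, K.symp.self] using h
  have h2 : In B L a w 0 := by
    have h := h1.mul K.symp he (hkw _) (map_zero _)
    rwa [add_zero, map_zero, add_zero, CharTwo.add_self_eq_zero] at h
  have hbw' : B b w = 0 := by rw [hw, map_smul, hbw, smul_zero]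
  have hy : Orb L a (b + w) := by
    have h := orb_of_in h2 hb
    rwa [uFun, K.symp.symm b a, hab, hbw', zero_smul, add_zero, zero_mul, zero_smul, add_zero,
      one_smul] at h
  have hw' : w ≠ 0 := smul_ne_zero (fun h => hne (CharTwo.add_eq_zero.1 h)) hw0
  have haw' : B a w = 0 := hkw _
  refine ⟨b, b + w, hb, hy, by rw [map_add, K.symp.self, hbw', zero_add], fun l hl => ?_,
    fun l hl => ?_⟩
  · have h := congrArg (B a) hl
    rw [hab, map_smul, map_add, hab, haw', add_zero, smul_eq_mul, mul_one] at h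
    subst h
    rw [one_smul, left_eq_add] at hl
    exact hw' hl
  · have h := congrArg (B a) hl
    rw [map_add, hab, haw', add_zero, map_smul, hab, smul_eq_mul, mul_one] at h
    subst h
    rw [one_smul, add_eq_left] at hl
    exact hw' hl

theorem full_self [Finite F] [FiniteDimensional F V] (hdim : 4 ≤ finrank F V) {τ : F}
    (hτ : τ ≠ 0) (hT : In B L a 0 τ) : Full B L a := by
  by_cases hq : ∀ k : F, k = 0 ∨ k = 1
  · intro c
    rcases hq c with rfl | rfl
    · exact in_zero B L a
    · rwa [(hq τ).resolve_left hτ] at hT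
  push Not at hq
  obtain ⟨k, hk0, hk1⟩ := hq
  obtain ⟨x, y, hx, hy, hxy, hnxy, hnyx⟩ := K.exists_orth_orb hdim hτ hT
  have hyx : B y x = 0 := by rw [K.symp.symm]; exact hxy
  by_contra hnot
  have uniq : ∀ σ σ', σ ≠ 0 → σ' ≠ 0 → In B L y 0 σ → In B L y 0 σ' → σ = σ' :=
    fun σ σ' h1 h2 h3 h4 => of_not_not fun hne =>
      hnot (K.full_self_of_orb hx (K.full_of_two hx hyx hnyx h1 h2 hne h3 h4))
  obtain ⟨δ, hδ, hδx⟩ := K.exists_tr hx hτ hT
  have step : ∀ l : F, l ≠ 0 → In B L y 0 (δ / (l * l)) := by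
    intro l hl
    obtain ⟨w, hxw, hyw⟩ := K.symp.exists_sep hnyx l
    obtain ⟨w', hyw', hxw'⟩ := K.symp.exists_sep hnxy l⁻¹
    obtain ⟨c, hc⟩ := K.hyp_of_orb hx hxw
    obtain ⟨c', hc'⟩ := K.hyp_of_orb hy hyw'
    obtain ⟨g, hg, hgx⟩ := hc
    obtain ⟨g', hg', hgx'⟩ := hc'
    have h1 : g y = y + l • x := by rw [hgx, uFun_perp hyx, hyw]
    have h2 : g' x = x + l⁻¹ • y := by rw [hgx', uFun_perp hxy, hxw']
    have h3 : g y = l • g' x := by
      rw [h1, h2, smul_add, smul_smul, mul_inv_cancel₀ hl, one_smul, add_comm]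
    refine (K.tr_map hg).1 ?_
    rw [h3, K.tr_smul, mul_div_cancel₀ δ (mul_ne_zero hl hl)]
    exact (K.tr_map hg').2 hδx
  have h1 := step 1 one_ne_zero
  rw [mul_one, div_one] at h1
  have h2 := uniq _ _ hδ (div_ne_zero hδ (mul_ne_zero hk0 hk0)) h1 (step k hk0)
  rw [eq_div_iff (mul_ne_zero hk0 hk0), mul_eq_left₀ hδ] at h2
  rcases mul_self_eq_one_iff.1 h2 with h3 | h3
  · exact hk1 h3
  · exact hk1 (by rw [h3, CharTwo.neg_eq])

/-- The transvection case: every transvection lies in `L`. -/
theorem all_transvections [Finite F] [FiniteDimensional F V] (hdim : 4 ≤ finrank F V) {τ : F}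
    (hτ : τ ≠ 0) (hT : In B L a 0 τ) (z : V) : Full B L z := by
  have hfa := K.full_self hdim hτ hT
  have line : ∀ x y, Full B L x → Full B L y → B x y ≠ 0 → ∀ k : F, Full B L (x + k • y) := by
    intro x y hx hy hxy k
    obtain ⟨g, hg, hgx⟩ := hy (k / B x y)
    intro c
    have h := (K.tr_map (x := x) hg).2 (hx c)
    rwa [hgx, uFun, map_zero, smul_zero, zero_smul, add_zero, add_zero, div_mul_cancel₀ k hxy] at h
  obtain ⟨b, hb, hab⟩ := K.exists_partner K.ne
  have off : ∀ y, B a y ≠ 0 → Full B L y := by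
    intro y hy
    set y' := (B a y)⁻¹ • y with hy'
    have hy1 : B a y' = 1 := by rw [hy', map_smul, smul_eq_mul, inv_mul_cancel₀ hy]
    have hu : B a (y' + b) = 0 := by rw [map_add, hy1, hab, CharTwo.add_self_eq_zero]
    obtain ⟨c, hc⟩ := K.hyp _ hu
    have hp := K.full_of_orb (orb_of_in hc hb) hfa
    have hp1 : B (uFun B a (y' + b) c b) a ≠ 0 := by
      simp [uFun, K.symp.self, K.symp.symm b a, hab, K.symp.symm y' a, hy1,
        CharTwo.add_self_eq_zero]
    have h := line _ a hp hfa hp1 (B b (y' + b) + c)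
    have e : uFun B a (y' + b) c b + (B b (y' + b) + c) • a = y' := by
      have h2 : (2 : F) = 0 := CharTwo.two_eq_zero
      simp only [uFun, K.symp.symm b a, hab]
      match_scalars <;>
        first
          | linear_combination (1 : F) * h2
          | linear_combination (c + B b (y' + b)) * h2
          | linear_combination (-(c + B b (y' + b))) * h2
          | ring
    rw [e] at h
    have h' := K.full_smul (k := B a y) h
    rwa [hy', smul_smul, mul_inv_cancel₀ hy, one_smul] at h'
  by_cases hz : ∃ k : F, z = k • a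
  · obtain ⟨k, rfl⟩ := hz
    exact K.full_smul hfa
  push Not at hz
  by_cases haz : B a z = 0
  · obtain ⟨w, haw, hzw⟩ := K.symp.exists_sep hz (1 + B z b)
    have hy : B a (b + w) = 1 := by rw [map_add, hab, haw, add_zero]
    have hzy : B z (b + w) = 1 := by
      rw [map_add, hzw, add_left_comm, CharTwo.add_self_eq_zero, add_zero]
    have h1 : Full B L (z + (b + w)) := off _ (by rw [map_add, haz, hy, zero_add]; exact one_ne_zero)
    have h2 : Full B L (b + w) := off _ (by rw [hy]; exact one_ne_zero)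
    have h := line _ _ h1 h2 (by
      rw [LinearMap.map_add₂, hzy, K.symp.self, add_zero]; exact one_ne_zero) 1
    rwa [one_smul, add_assoc, ← two_smul F (b + w), CharTwo.two_eq_zero, zero_smul,
      add_zero] at h
  · exact off z haz

end Conf

end CfsgLib.SpOver
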